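import Cfsg.Agent.H240.GenTwF.TwFInner

/-!
# S4876, rows `²F₄(q)`, `p = 5`: the elements (helper210)

`A = e 0 1 0` (order 4), `x = n₂ A²` has order 5 and `A⁻¹ x A = x²`, all in `L₄ ≅ Sz(q)`; the conjugates by `rot²` are
in `M₄`, which commutes with `L₄`.
-/

set_option autoImplicit false

open Subgroup

namespace Cfsg.Agent.H210.K6

open Cfsg.Agent.KFacts.TwF4 Cfsg.Agent.KFacts.TwF4.Irr Cfsg.Agent.KFacts.TwF4.Inv Cfsg.Agent.KFacts.TwF4.Arc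
open Cfsg.Agent.SplitTwo.ZS Cfsg.Agent.SplitTwo.RootSysZ
open Cfsg.Agent.CpAutTwF.Cent

universe u

/-- relations in the group `5 : 4` -/
theorem five_rel {G : Type*} [Group G] {n A : G} (hn : n * n = 1) (hA : A ^ 4 = 1)
    (h : n = A * (n * (A * A) * n⁻¹) * A⁻¹) :
    A⁻¹ * (n * (A * A)) * A = (n * (A * A)) ^ 2 ∧ (n * (A * A)) ^ 5 = 1 := by
  have hni : n⁻¹ = n := inv_eq_of_mul_eq_one_right hn
  rw [hni] at h
  have h1 : A⁻¹ * n * A = n * (A * A) * n := by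
    calc A⁻¹ * n * A = A⁻¹ * (A * (n * (A * A) * n) * A⁻¹) * A := by rw [← h]
      _ = n * (A * A) * n := by group
  have h2 : A⁻¹ * (n * (A * A)) * A = (n * (A * A)) ^ 2 := by
    calc A⁻¹ * (n * (A * A)) * A = (A⁻¹ * n * A) * (A * A) := by group
      _ = n * (A * A) * n * (A * A) := by rw [h1]
      _ = (n * (A * A)) ^ 2 := by rw [pow_two]; group
  refine ⟨h2, ?_⟩
  have hA2 : (A * A) * (A * A) = 1 := by
    rw [← hA]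
    simp only [pow_succ, pow_zero, one_mul, mul_assoc]
  have h3 : (A * A)⁻¹ = A * A := inv_eq_of_mul_eq_one_right hA2
  have h4 : A⁻¹ * (n * (A * A)) ^ 2 * A = (n * (A * A)) ^ 4 := by
    have e : A⁻¹ * (n * (A * A)) ^ 2 * A = (A⁻¹ * (n * (A * A)) * A) ^ 2 := by
      rw [pow_two, pow_two]; group
    rw [e, h2, ← pow_mul]
  have h5 : (n * (A * A)) ^ 4 = (n * (A * A))⁻¹ := by
    rw [← h4, ← h2]
    calc A⁻¹ * (A⁻¹ * (n * (A * A)) * A) * A = (A * A)⁻¹ * n * ((A * A) * (A * A)) := by group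
      _ = (n * (A * A))⁻¹ := by rw [hA2, mul_one, mul_inv_rev n, hni]
  rw [pow_succ, h5, inv_mul_cancel]

section sys

variable {F : Type*} [Field F] {σ : F →+* F} {G : Type u} [Group G] (S : Full σ G)

theorem A_sq : S.e 0 1 0 * S.e 0 1 0 = S.e 0 0 1 := by
  rw [S.e_mul, map_one, mul_one, add_zero, zero_add, char2 S]

theorem A_four : (S.e 0 1 0) ^ 4 = 1 := by
  have h : (S.e 0 1 0) ^ 4 = (S.e 0 1 0 * S.e 0 1 0) * (S.e 0 1 0 * S.e 0 1 0) := by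
    simp only [pow_succ, pow_zero, one_mul, mul_assoc]
  rw [h, A_sq, z_sq]

/-- the element of order 5 -/
def x5 : G := S.n2 * (S.e 0 1 0 * S.e 0 1 0)

theorem A_mem : S.e 0 1 0 ∈ L4 S := X0_L4 S ((S.mem_XZ_even 0 _).2 ⟨1, 0, rfl⟩)

theorem x5_mem : x5 S ∈ L4 S := mul_mem (n2_mem_L4 S) (mul_mem (A_mem S) (A_mem S))

theorem n2_rel : S.n2 = S.e 0 1 0 * (S.n2 * (S.e 0 1 0 * S.e 0 1 0) * S.n2⁻¹) * (S.e 0 1 0)⁻¹ := by
  have h := S.n2_e 0 0 1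
  rw [sub_zero] at h
  rw [A_sq, h]
  exact n2_word' S

theorem x5_rel : (S.e 0 1 0)⁻¹ * x5 S * S.e 0 1 0 = x5 S ^ 2 ∧ x5 S ^ 5 = 1 :=
  five_rel S.n2_sq (A_four S) (n2_rel S)

theorem x5_ne : x5 S ≠ 1 := by
  intro h
  have h1 : S.n2 = S.e 0 1 0 * S.e 0 1 0 := by
    have h2 := eq_inv_of_mul_eq_one_left h
    rw [h2, A_sq]
    exact inv_eq_of_mul_eq_one_right (z_sq S 0 1)
  have h2 := S.n2_e 4 0 1
  rw [sub_self, h1, A_sq] at h2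
  have h3 : S.e 4 0 1 = S.e 0 0 1 := by
    have h4 : S.e 4 0 1 = (S.e 0 0 1)⁻¹ * (S.e 0 0 1 * S.e 4 0 1 * (S.e 0 0 1)⁻¹) * S.e 0 0 1 := by group
    rw [h4, h2]
    group
  have h4 : S.e 4 0 1 = 1 := S.X_inf_opp (i := 0) ((S.mem_XZ_even 0 _).2 ⟨0, 1, by rw [h3]; rfl⟩)
    ((S.mem_XZ_even 4 _).2 ⟨0, 1, rfl⟩)
  exact one_ne_zero (S.e_eq_one h4).2

theorem x5_order : orderOf (x5 S) = 5 := by
  have : Fact (Nat.Prime 5) := ⟨by norm_num⟩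
  exact orderOf_eq_prime (x5_rel S).2 (x5_ne S)

/-- **the elements for the criterion**: `x ∈ L₄`, `y, c ∈ M₄`, of order 5, `c y c⁻¹ = y²` -/
theorem exists_xyc [Finite F] [Finite G] : ∃ x ∈ L4 S, ∃ y ∈ M4 S, ∃ c ∈ M4 S, orderOf x = 5 ∧ orderOf y = 5 ∧ x * y = y * x ∧
    c * x * c⁻¹ = x ∧ c * y * c⁻¹ = y ^ 2 ∧ y ∉ zpowers x := by
  have hx := x5_mem S
  have hy : S.ck 2 (x5 S) ∈ M4 S := by
    rw [← map_L4]
    exact ⟨x5 S, x5_mem S, rfl⟩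
  have hc : S.ck 2 (S.e 0 1 0)⁻¹ ∈ M4 S := by
    rw [← map_L4]
    exact ⟨(S.e 0 1 0)⁻¹, inv_mem (A_mem S), rfl⟩
  have hcx : S.ck 2 (S.e 0 1 0)⁻¹ * x5 S * (S.ck 2 (S.e 0 1 0)⁻¹)⁻¹ = x5 S := by
    rw [← L4_comm_M4 S hx hc, mul_inv_cancel_right]
  have hcy : S.ck 2 (S.e 0 1 0)⁻¹ * S.ck 2 (x5 S) * (S.ck 2 (S.e 0 1 0)⁻¹)⁻¹ = S.ck 2 (x5 S) ^ 2 := by
    rw [← map_inv, ← map_mul, ← map_mul, ← map_pow, ← (x5_rel S).1, inv_inv]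
  refine ⟨x5 S, hx, S.ck 2 (x5 S), hy, S.ck 2 (S.e 0 1 0)⁻¹, hc, x5_order S, ?_, L4_comm_M4 S hx hy, hcx, hcy, ?_⟩
  · rw [MulEquiv.orderOf_eq, x5_order]
  · rintro ⟨k, hk⟩
    have hk' : x5 S ^ k = S.ck 2 (x5 S) := hk
    have h1 : S.ck 2 (S.e 0 1 0)⁻¹ * S.ck 2 (x5 S) * (S.ck 2 (S.e 0 1 0)⁻¹)⁻¹ = S.ck 2 (x5 S) := by
      rw [← hk', ← conj_zpow, hcx]
    rw [hcy, pow_two] at h1
    have h2 : S.ck 2 (x5 S) = 1 := mul_eq_left.1 h1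
    exact x5_ne S ((map_eq_one_iff _ (S.ck 2).injective).1 h2)

end sys

end Cfsg.Agent.H210.K6
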