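import Cfsg.Agent.H210.K6.PairWt
import Cfsg.Agent.H210.K6.Seven

/-!
# S4876, rows `²F₄(q)`, `p = 5` (helper210)
-/

set_option autoImplicit false

open Cfsg Subgroup

namespace Cfsg.Agent.H210.K6

open Cfsg.Agent.H61.K6 Cfsg.Agent.H240.GenTwF
open Cfsg.Agent.KFacts.TwF4 Cfsg.Agent.KFacts.TwF4.Irr Cfsg.Agent.KFacts.TwF4.Inv Cfsg.Agent.KFacts.TwF4.Arc
open Cfsg.Agent.CpAutTwF.Cent

universe u w

/-- elements of order `p ^ a`, `a ≥ 2`, and weight 4 -/
theorem KRow.of_four {p : ℕ} [hp : Fact p.Prime] {X : Type u} [Group X] [Finite X] (hX : ¬ HasNormalPComplement p X)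
    {v : X} {a : ℕ} (ha : 2 ≤ a) (hv : orderOf v = p ^ a) (hw : WtGe.{w, u} p v 4) : KRow.{w, u} p X := by
  classical
  have hvp : orderOf (v ^ p) = p ^ (a - 1) := by
    rw [orderOf_pow, hv]
    have h1 : (p ^ a).gcd p = p := Nat.gcd_eq_right (dvd_pow_self p (by omega))
    rw [h1]
    obtain ⟨b, rfl⟩ : ∃ b, a = b + 1 := ⟨a - 1, by omega⟩
    rw [pow_succ, Nat.mul_div_cancel _ hp.out.pos, Nat.add_sub_cancel]
  have hne : orderOf v ≠ orderOf (v ^ p) := by
    rw [hv, hvp]
    intro h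
    have := Nat.pow_right_injective hp.out.two_le h
    omega
  have hne' : v ≠ v ^ p := fun h => hne (by rw [← h])
  refine KRow.of_weights hX {v, v ^ p} ?_ ?_ (fun x => if x = v then 4 else 1) ?_ ?_
  · intro x hx
    rcases Finset.mem_insert.1 hx with rfl | hx
    · refine ⟨⟨a, hv⟩, ?_⟩
      rintro rfl
      rw [orderOf_one] at hv
      have := Nat.one_lt_pow (n := a) (by omega) hp.out.one_lt
      omega
    · rw [Finset.mem_singleton.1 hx]
      refine ⟨⟨a - 1, hvp⟩, ?_⟩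
      intro h
      rw [h, orderOf_one] at hvp
      have := Nat.one_lt_pow (n := a - 1) (by omega) hp.out.one_lt
      omega
  · intro x hx y hy σ hσ
    have ho : orderOf x = orderOf y := by rw [← hσ, MulEquiv.orderOf_eq]
    rcases Finset.mem_insert.1 hx with rfl | hx <;> rcases Finset.mem_insert.1 hy with rfl | hy
    · rfl
    · rw [Finset.mem_singleton.1 hy] at ho
      exact absurd ho hne
    · rw [Finset.mem_singleton.1 hx] at ho
      exact absurd ho.symm hne
    · rw [Finset.mem_singleton.1 hx, Finset.mem_singleton.1 hy]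
  · intro x hx
    split_ifs with h
    · rw [h]; exact hw
    · exact wtGe_one x
  · rw [Finset.sum_insert (by rw [Finset.mem_singleton]; exact hne'), Finset.sum_singleton, if_pos rfl, if_neg hne'.symm]

theorem two_order : orderOf (((2 : ℕ) : ZMod 5)) = 4 := by
  rw [orderOf_eq_iff (by norm_num)]
  decide

theorem two_sq : (((2 : ℕ) : ZMod 5)) ^ 2 = -1 := by decide

variable {F : Type*} [Field F] {σ : F →+* F} {G : Type u} [Group G] (S : Full σ G) [Finite F] [Finite G]

/-- **the row for `p = 5`** -/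
theorem five_sys {m : ℕ} (hm : 1 ≤ m) (hFc : Nat.card F = 2 ^ (2 * m + 1))
    (hG : Nat.card G = H42.Tw.ord (Nat.card F)) [IsSimpleGroup G] (hna : ∃ a b : G, a * b ≠ b * a)
    (hR : S.R.p = 2) : KRow.{w, u} 5 G := by
  have hp5 : Fact (Nat.Prime 5) := ⟨by norm_num⟩
  have hF : ∃ c : Fˣ, c ≠ 1 := H240.BalTwF.unit_of_card hm hFc
  have h5 : 5 ∣ Nat.card F ^ 2 + 1 := by
    rw [hFc, ← pow_mul]
    have h1 : 2 ^ ((2 * m + 1) * 2) = 16 ^ m * 4 := by
      rw [show (2 * m + 1) * 2 = 4 * m + 2 by ring, pow_add, pow_mul]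
      norm_num
    rw [h1]
    have h2 : 16 ^ m % 5 = 1 := by rw [Nat.pow_mod]; norm_num
    omega
  obtain ⟨x, hx, y, hy, c, hc, hxo, hyo, hxy, hcx, hcy, hyx⟩ := exists_xyc S
  by_cases h125 : 5 ^ 3 ∣ Nat.card G
  · have hpair := pair_sz S hm hFc hG (p := 5) (by norm_num) (Or.inr h5)
    have hnq := H42.Tw.not_dvd_sub_one_of_sq (p := 5) (by norm_num) (by
      rw [hFc]
      calc 2 = 2 ^ 1 := rfl
        _ ≤ 2 ^ (2 * m + 1) := Nat.pow_le_pow_right (by norm_num) (by omega)) h5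
    obtain ⟨v, hv, hvo, hvw⟩ := wt_pair.{u, w} hpair
      (fun P hP hPp => H42.Tw.cyc S hF hR (by norm_num) hnq (j := 0) P hP hPp)
      (fun P hP hPp => H42.Tw.cyc S hF hR (by norm_num) hnq (j := 4) P hP hPp) hy ⟨1, by rw [hyo, pow_one]⟩ (by
        rintro rfl
        rw [orderOf_one] at hyo
        omega) hc hcy
    rw [two_order] at hvw
    have ha : 2 ≤ (Nat.card (L4 S)).factorization 5 := by
      have h1 := (hp5.out.pow_dvd_iff_le_factorization Nat.card_pos.ne').1 h125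
      have h2 := hpair.fact
      omega
    exact KRow.of_four (not_compl_of_simple hna ((dvd_pow_self 5 (by norm_num)).trans h125)) ha hvo hvw
  · exact KRow.of_order_four h125 hxo hyo hxy hyx hcx hcy two_sq

end Cfsg.Agent.H210.K6
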