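import Cfsg.Agent.H210.K6.PairWt
import Cfsg.Agent.H772.TF.SylThree

/-!
# S4876, rows `²F₄(q)`, `p = 3`, `9 ∣ q + 1`: an element of order 9 is not conjugate to its 4th power (helper210)
-/

set_option autoImplicit false

open Subgroup

namespace Cfsg.Agent.H210.K6

theorem z9 : ∀ β γ : ZMod 9, γ * γ * γ = 1 → (∀ k : ZMod 9, (k = 4 ∨ k = 7) → β * (k * k + k * γ + γ * γ) = 0 →
    3 * β = 0 ∧ 3 * γ = 3) := by decide

/-- the computation -/
theorem cube_fixed {G : Type*} [Group G] {v r s : G} (hv : v ^ 9 = 1) (hr : r ^ 9 = 1) (hc : v * r = r * v)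
    (hind : ∀ i j : ℤ, v ^ i * r ^ j = 1 → (9 : ℤ) ∣ i ∧ (9 : ℤ) ∣ j) {k : ℤ} (hk : ((k : ZMod 9) = 4 ∨ (k : ZMod 9) = 7))
    (hs : s * v * s⁻¹ = v ^ k) {β γ : ℤ} (hsr : s * r * s⁻¹ = v ^ β * r ^ γ)
    (h3 : s * (s * (s * r * s⁻¹) * s⁻¹) * s⁻¹ = r) : s * r ^ 3 * s⁻¹ = r ^ 3 := by
  have hcz : ∀ i j : ℤ, r ^ j * v ^ i = v ^ i * r ^ j := fun i j => ((show Commute v r from hc).zpow_zpow i j).eq.symm
  have hmul : ∀ i j i' j' : ℤ, v ^ i * r ^ j * (v ^ i' * r ^ j') = v ^ (i + i') * r ^ (j + j') := by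
    intro i j i' j'
    rw [zpow_add, zpow_add]
    calc v ^ i * r ^ j * (v ^ i' * r ^ j') = v ^ i * (r ^ j * v ^ i') * r ^ j' := by group
      _ = _ := by rw [hcz]; group
  have hpow : ∀ i j n : ℤ, (v ^ i * r ^ j) ^ n = v ^ (i * n) * r ^ (j * n) := by
    intro i j n
    rw [((show Commute v r from hc).zpow_zpow i j).mul_zpow, ← zpow_mul, ← zpow_mul]
  have hsv : ∀ i : ℤ, s * v ^ i * s⁻¹ = v ^ (k * i) := by
    intro i
    rw [← conj_zpow, hs, ← zpow_mul]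
  have hsr' : ∀ j : ℤ, s * r ^ j * s⁻¹ = v ^ (β * j) * r ^ (γ * j) := by
    intro j
    rw [← conj_zpow, hsr, hpow]
  have hsvr : ∀ i j : ℤ, s * (v ^ i * r ^ j) * s⁻¹ = v ^ (k * i + β * j) * r ^ (γ * j) := by
    intro i j
    have e : s * (v ^ i * r ^ j) * s⁻¹ = (s * v ^ i * s⁻¹) * (s * r ^ j * s⁻¹) := by group
    rw [e, hsv, hsr']
    have := hmul (k * i) 0 (β * j) (γ * j)
    rw [zpow_zero, mul_one, zero_add] at this
    exact this
  rw [hsr, hsvr, hsvr] at h3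
  have h4 : v ^ (k * (k * β + β * γ) + β * (γ * γ)) * r ^ (γ * (γ * γ) - 1) = 1 := by
    rw [zpow_sub, zpow_one, ← mul_assoc, h3, mul_inv_cancel]
  obtain ⟨h5, h6⟩ := hind _ _ h4
  have h7 : (γ : ZMod 9) * γ * γ = 1 := by
    have := (ZMod.intCast_zmod_eq_zero_iff_dvd (γ * (γ * γ) - 1) 9).2 (by exact_mod_cast h6)
    push_cast at this
    linear_combination this
  have h8 : (β : ZMod 9) * ((k : ZMod 9) * k + k * γ + γ * γ) = 0 := by
    have := (ZMod.intCast_zmod_eq_zero_iff_dvd (k * (k * β + β * γ) + β * (γ * γ)) 9).2 (by exact_mod_cast h5)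
    push_cast at this
    linear_combination this
  obtain ⟨h9, h10⟩ := z9 _ _ h7 _ hk h8
  have h11 : (9 : ℤ) ∣ β * 3 := by
    have := (ZMod.intCast_zmod_eq_zero_iff_dvd (β * 3) 9).1 (by push_cast; linear_combination h9)
    exact_mod_cast this
  have h12 : (9 : ℤ) ∣ γ * 3 - 3 := by
    have := (ZMod.intCast_zmod_eq_zero_iff_dvd (γ * 3 - 3) 9).1 (by push_cast; linear_combination h10)
    exact_mod_cast this
  have h13 := hsr' 3
  have e3 : r ^ (3 : ℤ) = r ^ 3 := by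
    rw [← zpow_natCast]; rfl
  rw [e3] at h13
  rw [h13]
  obtain ⟨b, hb⟩ := h11
  obtain ⟨c, hc'⟩ := h12
  have e9 : ∀ (g : G) (n : ℤ), g ^ 9 = 1 → g ^ (9 * n) = 1 := by
    intro g n hg
    rw [zpow_mul]
    have : g ^ (9 : ℤ) = g ^ 9 := by rw [← zpow_natCast]; rfl
    rw [this, hg, one_zpow]
  rw [hb, e9 v b hv, one_mul, show γ * 3 = 9 * c + 3 by linarith, zpow_add, e9 r c hr, one_mul, e3]

/-- the subgroup of all `v ^ i w ^ k` -/
def prodZ {G : Type*} [Group G] {v w : G} (hc : Commute v w) : Subgroup G where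
  carrier := {g | ∃ i k : ℤ, g = v ^ i * w ^ k}
  one_mem' := ⟨0, 0, by simp⟩
  mul_mem' := by
    rintro _ _ ⟨i, k, rfl⟩ ⟨i', k', rfl⟩
    refine ⟨i + i', k + k', ?_⟩
    rw [zpow_add, zpow_add]
    have := (hc.zpow_zpow i' k).eq
    calc v ^ i * w ^ k * (v ^ i' * w ^ k') = v ^ i * (w ^ k * v ^ i') * w ^ k' := by group
      _ = _ := by rw [← this]; group
  inv_mem' := by
    rintro _ ⟨i, k, rfl⟩
    refine ⟨-i, -k, ?_⟩
    rw [mul_inv_rev, zpow_neg, zpow_neg]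
    exact ((hc.zpow_zpow i k).inv_inv).eq.symm

theorem prodZ_comm {G : Type*} [Group G] {v w : G} (hc : Commute v w) : ∀ a ∈ prodZ hc, ∀ b ∈ prodZ hc, a * b = b * a := by
  rintro _ ⟨i, k, rfl⟩ _ ⟨i', k', rfl⟩
  have h2 : Commute (v ^ i * w ^ k) (v ^ i' * w ^ k') := by
    refine Commute.mul_left (Commute.mul_right ?_ ?_) (Commute.mul_right ?_ ?_)
    · exact (Commute.refl v).zpow_zpow _ _
    · exact hc.zpow_zpow _ _
    · exact hc.symm.zpow_zpow _ _
    · exact (Commute.refl w).zpow_zpow _ _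
  exact h2.eq

theorem card_prodZ {G : Type*} [Group G] [Finite G] {v w : G} (hc : Commute v w)
    (hind : ∀ i j : ℤ, v ^ i * w ^ j = 1 → v ^ i = 1) : Nat.card (prodZ hc) = orderOf v * orderOf w := by
  have hb : Function.Bijective (fun a : zpowers v × zpowers w => (⟨(a.1 : G) * (a.2 : G), by
      obtain ⟨i, hi⟩ := a.1.2
      obtain ⟨k, hk⟩ := a.2.2
      exact ⟨i, k, by rw [← hi, ← hk]⟩⟩ : prodZ hc)) := by
    constructor
    · rintro ⟨⟨_, i, rfl⟩, ⟨_, j, rfl⟩⟩ ⟨⟨_, i', rfl⟩, ⟨_, j', rfl⟩⟩ hab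
      have h1 : v ^ i * w ^ j = v ^ i' * w ^ j' := congrArg Subtype.val hab
      have h2 : v ^ (i - i') * w ^ (j - j') = 1 := by
        rw [zpow_sub, zpow_sub]
        have h3 := ((hc.zpow_zpow i' j).inv_left).eq
        calc v ^ i * (v ^ i')⁻¹ * (w ^ j * (w ^ j')⁻¹) = v ^ i * ((v ^ i')⁻¹ * w ^ j) * (w ^ j')⁻¹ := by group
          _ = (v ^ i * w ^ j) * ((v ^ i')⁻¹ * (w ^ j')⁻¹) := by rw [h3]; group
          _ = (v ^ i' * w ^ j') * ((w ^ j')⁻¹ * (v ^ i')⁻¹) := by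
            rw [h1, ((hc.zpow_zpow i' j').inv_inv).eq]
          _ = 1 := by group
      have h3 : v ^ i = v ^ i' := by
        have := hind _ _ h2
        rw [zpow_sub] at this
        exact mul_inv_eq_one.1 this
      have h4 : w ^ j = w ^ j' := by
        rw [h3] at h1
        exact mul_left_cancel h1
      exact Prod.ext (Subtype.ext h3) (Subtype.ext h4)
    · rintro ⟨_, i, k, rfl⟩
      exact ⟨⟨⟨v ^ i, ⟨i, rfl⟩⟩, ⟨w ^ k, ⟨k, rfl⟩⟩⟩, rfl⟩
  rw [← Nat.card_congr (Equiv.ofBijective _ hb), Nat.card_prod, Nat.card_zpowers, Nat.card_zpowers]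

/-- a `3`-element of `N` lies in a normal subgroup of index prime to 3 -/
theorem mem_of_rel {G : Type*} [Group G] [Finite G] {p : ℕ} [hp : Fact p.Prime] {D N : Subgroup G} {w : G} (hwN : w ∈ N)
    {b : ℕ} (hw : w ^ p ^ b = 1) (hn : ∀ g ∈ N, ∀ d ∈ D, g * d * g⁻¹ ∈ D) (hidx : ¬ p ∣ D.relIndex N) : w ∈ D := by
  have hnorm : (D.subgroupOf N).Normal := ⟨fun d hd g => by
    rw [mem_subgroupOf] at hd ⊢
    exact hn g g.2 d hd⟩
  have h1 : orderOf (QuotientGroup.mk' (D.subgroupOf N) ⟨w, hwN⟩) ∣ (D.subgroupOf N).index := by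
    rw [Subgroup.index_eq_card]
    exact orderOf_dvd_natCard _
  have h2 : orderOf (QuotientGroup.mk' (D.subgroupOf N) ⟨w, hwN⟩) ∣ p ^ b := by
    refine orderOf_dvd_of_pow_eq_one ?_
    rw [← map_pow]
    have : (⟨w, hwN⟩ : N) ^ p ^ b = 1 := Subtype.ext hw
    rw [this, map_one]
  have h3 : (p ^ b).Coprime (D.subgroupOf N).index :=
    Nat.Coprime.pow_left _ ((Nat.Prime.coprime_iff_not_dvd hp.out).2 hidx)
  have h4 : orderOf (QuotientGroup.mk' (D.subgroupOf N) ⟨w, hwN⟩) = 1 := Nat.eq_one_of_dvd_coprimes h3 h2 h1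
  rw [orderOf_eq_one_iff] at h4
  exact mem_subgroupOf.1 ((QuotientGroup.eq_one_iff (⟨w, hwN⟩ : N)).1 h4)

theorem z9' : ∀ k : ZMod 9, k * k * k = 1 → k = 1 ∨ k = 4 ∨ k = 7 := by decide

/-- **an element of order 9 is not conjugate to its 4th power** -/
theorem no_conj {G : Type*} [Group G] [Finite G] {v0 w0 e e' w : G} {a : ℕ} (ha : 2 ≤ a) (hv0 : orderOf v0 = 3 ^ a)
    (hw0 : orderOf w0 = 3 ^ a) (hc : v0 * w0 = w0 * v0) (hind : ∀ i j : ℤ, v0 ^ i * w0 ^ j = 1 → v0 ^ i = 1)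
    (hG : (Nat.card G).factorization 3 ≤ 2 * a + 1) (he : e ∈ zpowers v0) (he3 : e ^ 3 = 1) (he' : e' ∈ zpowers w0)
    (he3' : e' ^ 3 = 1) (hw3 : w ^ 3 = 1) (hwe : ∀ g ∈ centralizer ({e, e'} : Set G), w * g * w⁻¹ ∈ centralizer ({e, e'} : Set G))
    (hwn : w ∉ centralizer ({e, e'} : Set G)) {x : G} {b : ℕ} (hx : x ^ 3 ^ b = 1)
    (h : x * v0 ^ 3 ^ (a - 2) * x⁻¹ = (v0 ^ 3 ^ (a - 2)) ^ 4) : False := by
  have h3 : Fact (Nat.Prime 3) := ⟨Nat.prime_three⟩
  obtain ⟨c, rfl⟩ : ∃ c, a = c + 2 := ⟨a - 2, by omega⟩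
  rw [Nat.add_sub_cancel] at h
  have hC : Commute v0 w0 := hc
  set T := prodZ hC with hT
  set v := v0 ^ 3 ^ c with hv
  set r := w0 ^ 3 ^ c with hr
  have hpow : (3 : ℕ) ^ (c + 2) = 3 ^ c * 9 := by rw [pow_add]; norm_num
  have hv9 : v ^ 9 = 1 := by rw [hv, ← pow_mul, ← hpow, ← hv0, pow_orderOf_eq_one]
  have hr9 : r ^ 9 = 1 := by rw [hr, ← pow_mul, ← hpow, ← hw0, pow_orderOf_eq_one]
  have hind' : ∀ i j : ℤ, v0 ^ i * w0 ^ j = 1 → w0 ^ j = 1 := by
    intro i j hij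
    rw [hind i j hij, one_mul] at hij
    exact hij
  -- divisibility
  have hdv : ∀ i : ℤ, v0 ^ i = 1 → ((3 ^ (c + 2) : ℕ) : ℤ) ∣ i := by
    intro i hi
    rw [← hv0]
    exact orderOf_dvd_iff_zpow_eq_one.2 hi
  have hdw : ∀ i : ℤ, w0 ^ i = 1 → ((3 ^ (c + 2) : ℕ) : ℤ) ∣ i := by
    intro i hi
    rw [← hw0]
    exact orderOf_dvd_iff_zpow_eq_one.2 hi
  have hvz : ∀ i : ℤ, v ^ i = v0 ^ ((3 ^ c : ℕ) * i : ℤ) := by
    intro i
    rw [hv, ← zpow_natCast, ← zpow_mul]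
  have hrz : ∀ i : ℤ, r ^ i = w0 ^ ((3 ^ c : ℕ) * i : ℤ) := by
    intro i
    rw [hr, ← zpow_natCast, ← zpow_mul]
  have h3c : ((3 ^ c : ℕ) : ℤ) ≠ 0 := by positivity
  have hnine : ∀ i : ℤ, ((3 ^ (c + 2) : ℕ) : ℤ) ∣ (3 ^ c : ℕ) * i → (9 : ℤ) ∣ i := by
    intro i hi
    rw [hpow, Nat.cast_mul] at hi
    have := (mul_dvd_mul_iff_left h3c).1 hi
    exact_mod_cast this
  have hindvr : ∀ i j : ℤ, v ^ i * r ^ j = 1 → (9 : ℤ) ∣ i ∧ (9 : ℤ) ∣ j := by
    intro i j hij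
    rw [hvz, hrz] at hij
    exact ⟨hnine i (hdv _ (hind _ _ hij)), hnine j (hdw _ (hind' _ _ hij))⟩
  have hvr : v * r = r * v := (hC.pow_pow _ _).eq
  have hTcard : Nat.card T = 3 ^ (2 * (c + 2)) := by
    rw [hT, card_prodZ hC hind, hv0, hw0, ← pow_add, two_mul]
  have hTab := prodZ_comm hC
  have hvT : v ∈ T := ⟨(3 ^ c : ℕ), 0, by rw [zpow_natCast, zpow_zero, mul_one]⟩
  have hrT : r ∈ T := ⟨0, (3 ^ c : ℕ), by rw [zpow_natCast, zpow_zero, one_mul]⟩
  have heT : e ∈ T := by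
    obtain ⟨i, rfl⟩ := he
    exact ⟨i, 0, by rw [zpow_zero, mul_one]⟩
  have heT' : e' ∈ T := by
    obtain ⟨i, rfl⟩ := he'
    exact ⟨0, i, by rw [zpow_zero, one_mul]⟩
  -- the groups `C ≤ N`
  set C := centralizer ({v} : Set G) with hCdef
  set N := normalizer ((zpowers v : Subgroup G) : Set G) with hN
  have hCN : ∀ g ∈ N, ∀ d ∈ C, g * d * g⁻¹ ∈ C := by
    intro g hg d hd
    rw [hCdef, mem_centralizer_singleton_iff] at hd ⊢
    have h1 : g⁻¹ * v * g ∈ zpowers v := by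
      have := (mem_normalizer_iff.1 (inv_mem hg) v).1 (mem_zpowers v)
      rwa [inv_inv] at this
    obtain ⟨i, hi⟩ := h1
    have hi' : v ^ i = g⁻¹ * v * g := hi
    have h2 : d * v ^ i = v ^ i * d := ((show Commute d v from hd).zpow_right i).eq
    have h4 : v = g * v ^ i * g⁻¹ := by rw [hi']; group
    calc g * d * g⁻¹ * v = g * d * g⁻¹ * (g * v ^ i * g⁻¹) := by rw [← h4]
      _ = g * (d * v ^ i) * g⁻¹ := by group
      _ = g * (v ^ i * d) * g⁻¹ := by rw [h2]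
      _ = (g * v ^ i * g⁻¹) * (g * d * g⁻¹) := by group
      _ = v * (g * d * g⁻¹) := by rw [← h4]
  have hCle : C ≤ N := by
    intro g hg
    rw [hCdef, mem_centralizer_singleton_iff] at hg
    rw [hN, mem_normalizer_iff]
    intro y
    have hg' : ∀ i : ℤ, g * v ^ i * g⁻¹ = v ^ i := by
      intro i
      rw [((show Commute g v from hg).zpow_right i).eq, mul_inv_cancel_right]
    constructor
    · rintro ⟨i, rfl⟩
      exact ⟨i, (hg' i).symm⟩
    · rintro ⟨i, hi⟩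
      have hi' : v ^ i = g * y * g⁻¹ := hi
      refine ⟨i, ?_⟩
      show v ^ i = y
      have h2 : g * v ^ i * g⁻¹ = g * y * g⁻¹ := by rw [hg', hi']
      simpa using h2
  have hTC : T ≤ C := fun t ht => mem_centralizer_singleton_iff.2 (hTab t ht v hvT)
  have hxN : x ∈ N := by
    have h1 : ∀ i : ℤ, x * v ^ i * x⁻¹ = v ^ (4 * i) := by
      intro i
      rw [← conj_zpow, h, ← zpow_natCast, ← zpow_mul]
      norm_num
    have h2 : ∀ i : ℤ, v ^ i = x * v ^ (7 * i) * x⁻¹ := by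
      intro i
      rw [h1, show (4 * (7 * i) : ℤ) = 9 * (3 * i) + i by ring, zpow_add, zpow_mul]
      have : v ^ (9 : ℤ) = v ^ 9 := by rw [← zpow_natCast]; rfl
      rw [this, hv9, one_zpow, one_mul]
    rw [hN, mem_normalizer_iff]
    intro y
    constructor
    · rintro ⟨i, rfl⟩
      exact ⟨4 * i, (h1 i).symm⟩
    · rintro ⟨i, hi⟩
      have hi' : v ^ i = x * y * x⁻¹ := hi
      refine ⟨7 * i, ?_⟩
      show v ^ (7 * i) = y
      rw [h2 i] at hi'
      simpa using hi'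
  have hxC : x ∉ C := by
    intro hxC
    rw [hCdef, mem_centralizer_singleton_iff] at hxC
    have h1 : x * v * x⁻¹ = v := by rw [hxC, mul_inv_cancel_right]
    rw [h] at h1
    have h2 : v ^ (3 : ℤ) * r ^ (0 : ℤ) = 1 := by
      rw [zpow_zero, mul_one]
      have h5 : v ^ 3 * v = 1 * v := by rw [← pow_succ, h1, one_mul]
      have h6 := mul_right_cancel h5
      rw [← h6, ← zpow_natCast]; rfl
    have := (hindvr _ _ h2).1
    omega
  -- the Sylow subgroup of `N`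
  have hTp : IsPGroup 3 (T.subgroupOf N) := by
    refine IsPGroup.of_card (n := 2 * (c + 2)) ?_
    rw [Nat.card_congr (subgroupOfEquivOfLe (hTC.trans hCle)).toEquiv, hTcard]
  obtain ⟨P0, hP0⟩ := hTp.exists_le_sylow
  set P : Subgroup G := (P0 : Subgroup N).map N.subtype with hP
  have hPp : IsPGroup 3 P := P0.isPGroup'.map _
  have hTP : T ≤ P := by
    intro t ht
    exact ⟨⟨t, hCle (hTC ht)⟩, hP0 (by rw [mem_subgroupOf]; exact ht), rfl⟩
  have hPN : P ≤ N := map_subtype_le _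
  obtain ⟨s, hsP, hsC⟩ : ∃ s ∈ P, s ∉ C := by
    by_contra hcon
    push Not at hcon
    refine hxC (mem_of_rel hxN hx hCN fun hd => ?_)
    have h1 : (P0 : Subgroup N) ≤ C.subgroupOf N := fun g hg => by
      rw [mem_subgroupOf]
      exact hcon _ ⟨g, hg, rfl⟩
    exact P0.not_dvd_index (hd.trans (index_dvd_of_le h1))
  have hsv : s * v ≠ v * s := fun h1 => hsC (mem_centralizer_singleton_iff.2 h1)
  have hPcard : Nat.card P ≤ 3 * Nat.card T := by
    obtain ⟨n, hn⟩ := IsPGroup.iff_card.1 hPp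
    have h1 : 3 ^ n ∣ Nat.card G := hn ▸ card_subgroup_dvd_card P
    have h2 := (h3.out.pow_dvd_iff_le_factorization Nat.card_pos.ne').1 h1
    rw [hn, hTcard, ← pow_succ']
    exact Nat.pow_le_pow_right (by norm_num) (by omega)
  have hnorm := (H772.TF.index_facts hPp hTP hTab hPcard hsP (hTP hvT) hsv).1
  have hTP' : T ≠ P := by
    intro h1
    exact hsC (hTC (h1 ▸ hsP))
  have hPT : Nat.card P = 3 * Nat.card T := by
    obtain ⟨n, hn⟩ := IsPGroup.iff_card.1 hPp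
    rw [hTcard, ← pow_succ'] at hPcard
    rw [hn] at hPcard
    have h1 : n ≤ 2 * (c + 2) + 1 := (Nat.pow_le_pow_iff_right (by norm_num)).1 hPcard
    have h2 : 2 * (c + 2) ≤ n := by
      have : Nat.card T ≤ Nat.card P := Nat.card_le_card_of_injective _ (inclusion_injective hTP)
      rw [hTcard, hn] at this
      exact (Nat.pow_le_pow_iff_right (by norm_num)).1 this
    have h4 : n ≠ 2 * (c + 2) := by
      intro h5
      exact hTP' (eq_of_le_of_card_ge hTP (by rw [hn, h5, hTcard]))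
    have h6 : n = 2 * (c + 2) + 1 := by omega
    rw [hn, h6, hTcard, pow_succ']
  -- `s ^ 3 ∈ T`
  have hidx : (T.subgroupOf P).index = 3 := by
    have h1 := (T.subgroupOf P).card_mul_index
    rw [Nat.card_congr (subgroupOfEquivOfLe hTP).toEquiv, hPT, mul_comm 3] at h1
    exact Nat.eq_of_mul_eq_mul_left Nat.card_pos h1
  have hs3 : s ^ 3 ∈ T := by
    have hn' : (T.subgroupOf P).Normal := ⟨fun t ht g => by
      rw [mem_subgroupOf] at ht ⊢
      exact hnorm g g.2 t ht⟩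
    have h1 := Subgroup.pow_index_mem (T.subgroupOf P) ⟨s, hsP⟩
    rw [hidx, mem_subgroupOf] at h1
    exact h1
  have hs3' : ∀ t ∈ T, s * (s * (s * t * s⁻¹) * s⁻¹) * s⁻¹ = t := by
    intro t ht
    have h1 := hTab _ hs3 t ht
    have e : s * (s * (s * t * s⁻¹) * s⁻¹) * s⁻¹ = s ^ 3 * t * (s ^ 3)⁻¹ := by
      rw [pow_succ, pow_two]; group
    rw [e, h1, mul_inv_cancel_right]
  -- the action of `s` on `v`
  obtain ⟨k, hk⟩ : ∃ k : ℤ, s * v * s⁻¹ = v ^ k := by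
    obtain ⟨k, hk⟩ := (mem_normalizer_iff.1 (hPN hsP) v).1 (mem_zpowers v)
    exact ⟨k, hk.symm⟩
  have hkk : (k : ZMod 9) = 4 ∨ (k : ZMod 9) = 7 := by
    have h1 := hs3' v hvT
    rw [hk, ← conj_zpow, hk, ← conj_zpow, ← conj_zpow, hk] at h1
    have h2 : v ^ (k * k * k - 1) * r ^ (0 : ℤ) = 1 := by
      rw [zpow_zero, mul_one, zpow_sub, zpow_one, mul_inv_eq_one, zpow_mul, zpow_mul]
      exact h1
    have h4 := (hindvr _ _ h2).1
    have h5 : (k : ZMod 9) * k * k = 1 := by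
      have := (ZMod.intCast_zmod_eq_zero_iff_dvd (k * k * k - 1) 9).2 (by exact_mod_cast h4)
      push_cast at this
      linear_combination this
    rcases z9' _ h5 with h6 | h6
    · exfalso
      have h7 : ((k - 1 : ℤ) : ZMod 9) = 0 := by push_cast; rw [h6, sub_self]
      have h8 := (ZMod.intCast_zmod_eq_zero_iff_dvd (k - 1) 9).1 h7
      obtain ⟨n, hn⟩ := h8
      apply hsv
      have h9 : v ^ k = v := by
        rw [show k = 9 * n + 1 by push_cast at hn; linarith, zpow_add, zpow_one, zpow_mul]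
        have : v ^ (9 : ℤ) = v ^ 9 := by rw [← zpow_natCast]; rfl
        rw [this, hv9, one_zpow, one_mul]
      rw [h9] at hk
      exact mul_inv_eq_iff_eq_mul.1 hk
    · exact h6
  -- the action on `r`
  obtain ⟨β, γ, hsr⟩ : ∃ β γ : ℤ, s * r * s⁻¹ = v ^ β * r ^ γ := by
    obtain ⟨i, j, hij⟩ := hnorm s hsP r hrT
    have h1 : (v0 ^ i * w0 ^ j) ^ 9 = 1 := by rw [← hij, conj_pow, hr9, mul_one, mul_inv_cancel]
    have h2 : v0 ^ (i * 9) * w0 ^ (j * 9) = 1 := by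
      rw [zpow_mul, zpow_mul, ← h1, ← (hC.zpow_zpow i j).mul_zpow, ← zpow_natCast]
      rfl
    have h4 := hdv _ (hind _ _ h2)
    have h5 := hdw _ (hind' _ _ h2)
    have h9 : (9 : ℤ) ≠ 0 := by norm_num
    rw [hpow, Nat.cast_mul] at h4 h5
    obtain ⟨i', hi'⟩ := (mul_dvd_mul_iff_right h9).1 (by exact_mod_cast h4 : ((3 ^ c : ℕ) : ℤ) * 9 ∣ i * 9)
    obtain ⟨j', hj'⟩ := (mul_dvd_mul_iff_right h9).1 (by exact_mod_cast h5 : ((3 ^ c : ℕ) : ℤ) * 9 ∣ j * 9)
    exact ⟨i', j', by rw [hij, hvz, hrz, ← hi', ← hj']⟩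
  have hr3 := cube_fixed hv9 hr9 hvr hindvr hkk hk hsr (hs3' r hrT)
  have hv3 : s * v ^ 3 * s⁻¹ = v ^ 3 := by
    rw [← conj_pow, hk]
    have h1 : ∃ n : ℤ, k = 3 * n + 1 := by
      have h2 : ∀ k : ZMod 9, k = 4 ∨ k = 7 → 3 * (k - 1) = 0 := by decide
      have h4 := h2 _ hkk
      have h5 : ((3 * (k - 1) : ℤ) : ZMod 9) = 0 := by push_cast; exact h4
      obtain ⟨n, hn⟩ := (ZMod.intCast_zmod_eq_zero_iff_dvd (3 * (k - 1)) 9).1 h5
      refine ⟨n, ?_⟩
      push_cast at hn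
      linarith
    obtain ⟨n, rfl⟩ := h1
    rw [← zpow_natCast, ← zpow_mul, show ((3 * n + 1) * (3 : ℕ) : ℤ) = 9 * n + 3 by push_cast; ring, zpow_add, zpow_mul]
    have : v ^ (9 : ℤ) = v ^ 9 := by rw [← zpow_natCast]; rfl
    rw [this, hv9, one_zpow, one_mul, ← zpow_natCast]
    rfl
  -- `s` centralizes `e` and `e'`
  have hcube : ∀ (u0 u : G), (∀ i : ℤ, u ^ i = u0 ^ ((3 ^ c : ℕ) * i : ℤ)) →
      (∀ i : ℤ, u0 ^ i = 1 → ((3 ^ (c + 2) : ℕ) : ℤ) ∣ i) → s * u ^ 3 * s⁻¹ = u ^ 3 →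
      ∀ y ∈ zpowers u0, y ^ 3 = 1 → y * s = s * y := by
    rintro u0 u hu hd hs _ ⟨i, rfl⟩ hy
    have hy' : u0 ^ (i * 3) = 1 := by
      rw [zpow_mul, ← hy, ← zpow_natCast]
      rfl
    have h1 := hd _ hy'
    have h2 : ((3 ^ (c + 2) : ℕ) : ℤ) = (3 ^ (c + 1) : ℕ) * 3 := by push_cast; ring
    rw [h2] at h1
    obtain ⟨n, hn⟩ := (mul_dvd_mul_iff_right (by norm_num : (3 : ℤ) ≠ 0)).1 h1
    have h4 : u0 ^ i = (u ^ 3) ^ n := by
      have h5 : (u ^ 3) ^ n = u ^ (3 * n) := by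
        rw [zpow_mul]
        congr 1
        exact (zpow_natCast u 3).symm
      rw [h5, hu, hn]
      congr 1
      push_cast
      ring
    have h5 : Commute (u ^ 3) s := by
      have := mul_inv_eq_iff_eq_mul.1 hs
      exact this.symm
    show u0 ^ i * s = s * u0 ^ i
    rw [h4]
    exact (h5.zpow_left n).eq
  have hse := hcube v0 v hvz hdv hv3 e he he3
  have hse' := hcube w0 r hrz hdw hr3 e' he' he3'
  -- `P` centralizes `e`, `e'`
  set D := centralizer ({e, e'} : Set G) with hD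
  have hmemD : ∀ g : G, g ∈ D ↔ (e * g = g * e ∧ e' * g = g * e') := by
    intro g
    rw [hD, mem_centralizer_iff]
    constructor
    · intro h1
      exact ⟨h1 e (by simp), h1 e' (by simp)⟩
    · rintro ⟨h1, h2⟩ y (rfl | hy)
      · exact h1
      · rw [Set.mem_singleton_iff.1 hy]
        exact h2
  have hTD : T ≤ D := fun t ht => (hmemD t).2 ⟨hTab e heT t ht, hTab e' heT' t ht⟩
  have hsD : s ∈ D := (hmemD s).2 ⟨hse, hse'⟩
  have hPD : P ≤ D := by
    have h1 : D ⊓ P = P := by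
      obtain ⟨n, hn⟩ := IsPGroup.iff_card.1 (hPp.to_le (inf_le_right : D ⊓ P ≤ P))
      have h2 : T ≤ D ⊓ P := le_inf hTD hTP
      have h4 : T ≠ D ⊓ P := by
        intro h5
        exact hsC (hTC (h5 ▸ ⟨hsD, hsP⟩))
      refine eq_of_le_of_card_ge inf_le_right ?_
      rw [hPT, hn, hTcard, ← pow_succ']
      apply Nat.pow_le_pow_right (by norm_num)
      by_contra hcon
      apply h4
      refine eq_of_le_of_card_ge h2 ?_
      rw [hn, hTcard]
      exact Nat.pow_le_pow_right (by norm_num) (by omega)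
    rw [← h1]
    exact inf_le_left
  -- the contradiction
  have hPidx : ¬ 3 ∣ P.index := by
    intro hd
    have h1 := P.card_mul_index
    rw [hPT, hTcard, ← pow_succ'] at h1
    have h2 : 3 ^ (2 * (c + 2) + 1 + 1) ∣ Nat.card G := by
      rw [pow_succ, ← h1]
      exact mul_dvd_mul_left _ hd
    have h4 := (h3.out.pow_dvd_iff_le_factorization Nat.card_pos.ne').1 h2
    omega
  have hDidx : ¬ 3 ∣ D.index := fun hd => hPidx (hd.trans (index_dvd_of_le hPD))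
  have hDmap : D.map (MulAut.conj w).toMonoidHom = D := by
    refine eq_of_le_of_card_ge ?_ ?_
    · rintro _ ⟨g, hg, rfl⟩
      exact hwe g hg
    · rw [card_map_of_injective (MulAut.conj w).injective]
  have hwN : w ∈ normalizer (D : Set G) := by
    rw [mem_normalizer_iff]
    intro g
    constructor
    · exact hwe g
    · intro hg
      rw [← hDmap] at hg
      obtain ⟨g', hg', hgg⟩ := hg
      have h4 : w * g' * w⁻¹ = w * g * w⁻¹ := hgg
      have h5 : g' = g := by simpa using h4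
      exact h5 ▸ hg'
  refine hwn (mem_of_rel (p := 3) (b := 1) hwN (by rw [pow_one]; exact hw3)
    (fun g hg d hd => (mem_normalizer_iff.1 hg d).1 hd) fun hd => hDidx ?_)
  exact hd.trans (Dvd.intro _ (relIndex_mul_index le_normalizer))

end Cfsg.Agent.H210.K6
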