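import Cfsg.Agent.H61.K6.Base
import Cfsg.Agent.H634.OneP.Main

/-!
# S4876: tools for the rows (helper210)

* `emb` : the embedding `X →* G` in a situation; `exists_sylow` : Sylow subgroups of `X` are Sylow subgroups of `G`;
  `mem_of_pel` : the `p`-elements of `G` are in `K`;
* `KRow.of_order_four` : **criterion (P5)**: `125 ∤ |X|`, `x`, `y` commuting independent elements of order 5, `c`
  centralizes `x` and acts on `⟨y⟩` with order 4.
-/

set_option autoImplicit false

open Cfsg Subgroup

namespace Cfsg.Agent.H210.K6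

open Cfsg.Agent.H61.K6

universe u v

/-- the embedding -/
def emb {G : Type*} [Group G] {K : Subgroup G} {X : Type*} [Group X] (f : X ≃* K) : X →* G :=
  K.subtype.comp f.toMonoidHom

theorem emb_apply {G : Type*} [Group G] {K : Subgroup G} {X : Type*} [Group X] (f : X ≃* K) (x : X) :
    emb f x = ((f x : K) : G) := rfl

theorem emb_inj {G : Type*} [Group G] {K : Subgroup G} {X : Type*} [Group X] (f : X ≃* K) :
    Function.Injective (emb f) := fun _ _ h => f.injective (Subtype.ext h)

theorem emb_mem {G : Type*} [Group G] {K : Subgroup G} {X : Type*} [Group X] (f : X ≃* K) (x : X) : emb f x ∈ K :=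
  (f x).2

theorem emb_surj {G : Type*} [Group G] {K : Subgroup G} {X : Type*} [Group X] (f : X ≃* K) {g : G} (hg : g ∈ K) :
    ∃ x, emb f x = g := by
  obtain ⟨x, hx⟩ := f.surjective ⟨g, hg⟩
  exact ⟨x, by rw [emb_apply, hx]⟩

section sit

variable {p : ℕ} {M : Ideal AlgInt} {G : Type*} [Group G] [Finite G] {K : Subgroup G} {X : Type*} [Group X]

/-- `p`-elements of `G` are in `K`. -/
theorem mem_of_pel (hS : Sit p M G K X) {g : G} {k : ℕ} (hg : g ^ p ^ k = 1) : g ∈ K := by
  have hn := hS.normal
  have h1 : orderOf (QuotientGroup.mk' K g) ∣ K.index := by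
    rw [Subgroup.index_eq_card]
    exact orderOf_dvd_natCard _
  have h2 : orderOf (QuotientGroup.mk' K g) ∣ p ^ k :=
    orderOf_dvd_of_pow_eq_one (by rw [← map_pow, hg, map_one])
  have h3 : (p ^ k).Coprime K.index :=
    Nat.Coprime.pow_left _ ((Nat.Prime.coprime_iff_not_dvd hS.prime).2 hS.ndvd)
  have h4 : orderOf (QuotientGroup.mk' K g) = 1 := Nat.eq_one_of_dvd_coprimes h3 h2 h1
  rw [orderOf_eq_one_iff] at h4
  exact (QuotientGroup.eq_one_iff g).1 h4

theorem card_eq (hS : Sit p M G K X) : Nat.card X * K.index = Nat.card G := by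
  obtain ⟨f⟩ := hS.iso
  rw [Nat.card_congr f.toEquiv]
  exact K.card_mul_index

theorem finite_of_sit (hS : Sit p M G K X) : Finite X := by
  obtain ⟨f⟩ := hS.iso
  exact Finite.of_equiv _ f.symm.toEquiv

theorem fact_card (hS : Sit p M G K X) : (Nat.card G).factorization p = (Nat.card X).factorization p := by
  have := finite_of_sit hS
  rw [← card_eq hS, Nat.factorization_mul Nat.card_pos.ne' Subgroup.index_ne_zero_of_finite, Finsupp.add_apply,
    Nat.factorization_eq_zero_of_not_dvd hS.ndvd, add_zero]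

/-- Sylow subgroups of `X` are Sylow subgroups of `G`. -/
theorem exists_sylow (hS : Sit p M G K X) (f : X ≃* K) (P : Sylow p X) :
    ∃ Q : Sylow p G, (Q : Subgroup G) = (P : Subgroup X).map (emb f) := by
  have hp : Fact p.Prime := ⟨hS.prime⟩
  have := finite_of_sit hS
  have hg := emb_inj f
  have hcard : Nat.card ((P : Subgroup X).map (emb f)) = Nat.card (P : Subgroup X) :=
    (Nat.card_congr ((P : Subgroup X).equivMapOfInjective (emb f) hg).toEquiv).symm
  have hindex : ¬ p ∣ ((P : Subgroup X).map (emb f)).index := by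
    have h1 : ((P : Subgroup X).map (emb f)).index * Nat.card (P : Subgroup X) =
        K.index * (P : Subgroup X).index * Nat.card (P : Subgroup X) := by
      have h2 := ((P : Subgroup X).map (emb f)).index_mul_card
      have h3 := K.index_mul_card
      have h4 := (P : Subgroup X).index_mul_card
      rw [hcard] at h2
      rw [h2, mul_assoc, h4, ← h3, Nat.card_congr f.toEquiv]
    have h2 := Nat.eq_of_mul_eq_mul_right Nat.card_pos h1
    rw [h2]
    exact fun h3 => (hp.out.dvd_mul.1 h3).elim hS.ndvd P.not_dvd_index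
  exact ⟨(P.isPGroup'.map (emb f)).toSylow hindex, rfl⟩

end sit

/-- the subgroup generated by two commuting independent elements of order `p` -/
theorem card_two {G : Type*} [Group G] [Finite G] {p : ℕ} [hp : Fact p.Prime] {y z : G} (hy : orderOf y = p)
    (hz : orderOf z = p) (hyz : y * z = z * y) (hn : z ∉ zpowers y) :
    (∀ a ∈ closure ({y, z} : Set G), a ^ p = 1) ∧ Nat.card ↥(closure ({y, z} : Set G)) = p ^ 2 ∧
      ∀ a ∈ closure ({y, z} : Set G), ∀ b ∈ closure ({y, z} : Set G), a * b = b * a := by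
  have hyz' : Commute y z := hyz
  have hform : ∀ a ∈ closure ({y, z} : Set G), ∃ i j : ℤ, a = y ^ i * z ^ j := by
    intro a ha
    induction ha using Subgroup.closure_induction with
    | mem w hw =>
      rcases hw with rfl | hw
      · exact ⟨1, 0, by simp⟩
      · rw [Set.mem_singleton_iff.1 hw]; exact ⟨0, 1, by simp⟩
    | one => exact ⟨0, 0, by simp⟩
    | mul a b _ _ iha ihb =>
      obtain ⟨i, j, rfl⟩ := iha
      obtain ⟨i', j', rfl⟩ := ihb
      refine ⟨i + i', j + j', ?_⟩
      rw [zpow_add, zpow_add]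
      have := (hyz'.zpow_zpow i' j).eq
      calc y ^ i * z ^ j * (y ^ i' * z ^ j') = y ^ i * (z ^ j * y ^ i') * z ^ j' := by group
        _ = _ := by rw [← this]; group
    | inv a _ iha =>
      obtain ⟨i, j, rfl⟩ := iha
      refine ⟨-i, -j, ?_⟩
      rw [mul_inv_rev, zpow_neg, zpow_neg]
      exact ((hyz'.zpow_zpow i j).inv_inv).eq.symm
  have hyp : y ^ p = 1 := by rw [← hy]; exact pow_orderOf_eq_one y
  have hzp : z ^ p = 1 := by rw [← hz]; exact pow_orderOf_eq_one z
  refine ⟨?_, ?_, ?_⟩
  · intro a ha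
    obtain ⟨i, j, rfl⟩ := hform a ha
    have h1 : Commute (y ^ i) (z ^ j) := hyz'.zpow_zpow i j
    rw [h1.mul_pow, ← zpow_natCast, ← zpow_natCast, ← zpow_mul, ← zpow_mul, mul_comm i, mul_comm j, zpow_mul,
      zpow_mul, zpow_natCast, zpow_natCast, hyp, hzp, one_zpow, one_zpow, one_mul]
  · -- the map `(i, j) ↦ y ^ i z ^ j` on `zpowers y × zpowers z`
    have hb : Function.Bijective (fun a : zpowers y × zpowers z =>
        (⟨(a.1 : G) * (a.2 : G), mul_mem ((zpowers_le.2 (subset_closure (by simp))) a.1.2)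
          ((zpowers_le.2 (subset_closure (by simp))) a.2.2)⟩ : closure ({y, z} : Set G))) := by
      constructor
      · rintro ⟨⟨a, ha⟩, ⟨b, hb⟩⟩ ⟨⟨c, hc⟩, ⟨d, hd⟩⟩ h
        have h1 : a * b = c * d := congrArg Subtype.val h
        have h2 : c⁻¹ * a = d * b⁻¹ := by
          rw [eq_mul_inv_iff_mul_eq, mul_assoc, h1]; group
        have h3 : d * b⁻¹ ∈ zpowers y := h2 ▸ mul_mem (inv_mem hc) ha
        have h4 : d * b⁻¹ ∈ zpowers z := mul_mem hd (inv_mem hb)
        have h5 : d * b⁻¹ = 1 := by
          by_contra hne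
          have hz1 : z ∈ zpowers (d * b⁻¹) := by
            have hcard : Nat.card (zpowers z) = p := by rw [Nat.card_zpowers, hz]
            have h6 := zpowers_le.2 h4
            have h7 : Nat.card (zpowers (d * b⁻¹)) ∣ Nat.card (zpowers z) := card_dvd_of_le h6
            rw [hcard, Nat.dvd_prime hp.out] at h7
            rcases h7 with h7 | h7
            · rw [Nat.card_zpowers, orderOf_eq_one_iff] at h7
              exact absurd h7 hne
            · have h8 : zpowers (d * b⁻¹) = zpowers z := eq_of_le_of_card_ge h6 (by rw [h7, hcard])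
              rw [h8]
              exact mem_zpowers z
          exact hn ((zpowers_le.2 h3) hz1)
        have h6 : d = b := mul_inv_eq_one.1 h5
        have h7 : a = c := by
          rw [h5] at h2
          exact (inv_mul_eq_one.1 h2).symm
        subst h6 h7
        rfl
      · rintro ⟨a, ha⟩
        obtain ⟨i, j, rfl⟩ := hform a ha
        exact ⟨⟨⟨y ^ i, ⟨i, rfl⟩⟩, ⟨z ^ j, ⟨j, rfl⟩⟩⟩, rfl⟩
    rw [← Nat.card_congr (Equiv.ofBijective _ hb), Nat.card_prod, Nat.card_zpowers, Nat.card_zpowers, hy, hz, pow_two]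
  · intro a ha b hb
    obtain ⟨i, j, rfl⟩ := hform a ha
    obtain ⟨i', j', rfl⟩ := hform b hb
    have h2 : Commute (y ^ i * z ^ j) (y ^ i' * z ^ j') := by
      refine Commute.mul_left (Commute.mul_right ?_ ?_) (Commute.mul_right ?_ ?_)
      · exact (Commute.refl y).zpow_zpow _ _
      · exact hyz'.zpow_zpow _ _
      · exact hyz'.symm.zpow_zpow _ _
      · exact (Commute.refl z).zpow_zpow _ _
    exact h2.eq

/-- the index of `C(P)` is at least the order of the action of an element -/
theorem le_relIndex {G : Type*} [Group G] [Finite G] {C N : Subgroup G} (c : G) (hc : c ∈ N) (n : ℕ)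
    (hn : ∀ k : ℕ, 0 < k → k < n → c ^ k ∉ C) : n ≤ C.relIndex N := by
  classical
  -- the cosets of `c ^ k`
  have hinj : Function.Injective (fun k : Fin n => (QuotientGroup.mk (⟨c, hc⟩ ^ (k : ℕ) : N) : N ⧸ C.subgroupOf N)) := by
    have key : ∀ i j : ℕ, i < n → j < n → i < j →
        (QuotientGroup.mk (⟨c, hc⟩ ^ i : N) : N ⧸ C.subgroupOf N) ≠ QuotientGroup.mk (⟨c, hc⟩ ^ j : N) := by
      intro i j _ hj hij h
      rw [QuotientGroup.eq, mem_subgroupOf] at h
      have h1 : ((⟨c, hc⟩ ^ i : N)⁻¹ * (⟨c, hc⟩ ^ j : N) : N) = (⟨c, hc⟩ ^ (j - i) : N) := by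
        rw [inv_mul_eq_iff_eq_mul, ← pow_add]
        congr 1
        omega
      rw [h1] at h
      exact hn (j - i) (by omega) (by omega) h
    intro i j hij
    by_contra hne
    rcases Nat.lt_or_gt_of_ne (fun h => hne (Fin.ext h)) with h | h
    · exact key _ _ i.2 j.2 h hij
    · exact key _ _ j.2 i.2 h hij.symm
  have h1 := Nat.card_le_card_of_injective _ hinj
  rw [Nat.card_fin] at h1
  exact h1

theorem order_four_five : ∀ a : ZMod 5, a ^ 2 = -1 → a ^ 1 ≠ 1 ∧ a ^ 2 ≠ 1 ∧ a ^ 3 ≠ 1 := by decide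

/-- **Criterion (P5).** -/
theorem KRow.of_order_four {X : Type v} [Group X] [Finite X] (hX : ¬ 5 ^ 3 ∣ Nat.card X) {x y c : X}
    (hx : orderOf x = 5) (hy : orderOf y = 5) (hxy : x * y = y * x) (hyx : y ∉ zpowers x) (hcx : c * x * c⁻¹ = x)
    {m : ℕ} (hcy : c * y * c⁻¹ = y ^ m) (hm : (m : ZMod 5) ^ 2 = -1) : KRow.{u, v} 5 X := by
  have hp5 : Fact (Nat.Prime 5) := ⟨by norm_num⟩
  intro M G _ _ K hS
  obtain ⟨f⟩ := hS.iso
  have hinj := emb_inj f
  have hxo : orderOf (emb f x) = 5 := by rw [orderOf_injective _ hinj, hx]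
  have hyo : orderOf (emb f y) = 5 := by rw [orderOf_injective _ hinj, hy]
  have hc1 : emb f x * emb f y = emb f y * emb f x := by rw [← map_mul, hxy, map_mul]
  have hn : emb f y ∉ zpowers (emb f x) := by
    rintro ⟨k, hk⟩
    exact hyx ⟨k, hinj (by rw [map_zpow]; exact hk)⟩
  obtain ⟨h5, hcard, hcomm⟩ := card_two hxo hyo hc1 hn
  -- the Sylow subgroup
  have hE : IsPGroup 5 ↥(closure ({emb f x, emb f y} : Set G)) := IsPGroup.of_card hcard
  obtain ⟨P, hP⟩ := hE.exists_le_sylow
  have hGfac : (Nat.card G).factorization 5 ≤ 2 := by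
    rw [fact_card hS]
    by_contra h
    exact hX ((hp5.out.pow_dvd_iff_le_factorization Nat.card_pos.ne').2 (by omega))
  have hPc : Nat.card (P : Subgroup G) ≤ 5 ^ 2 := by
    rw [P.card_eq_multiplicity]
    exact Nat.pow_le_pow_right (by norm_num) hGfac
  have hPE : closure ({emb f x, emb f y} : Set G) = P := eq_of_le_of_card_ge hP (by rw [hcard]; exact hPc)
  have hxP : emb f x ∈ (P : Subgroup G) := by rw [← hPE]; exact subset_closure (by simp)
  have hyP : emb f y ∈ (P : Subgroup G) := by rw [← hPE]; exact subset_closure (by simp)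
  have hcx' : emb f c * emb f x * (emb f c)⁻¹ = emb f x := by rw [← map_inv, ← map_mul, ← map_mul, hcx]
  have hcy' : emb f c * emb f y * (emb f c)⁻¹ = emb f y ^ m := by rw [← map_inv, ← map_mul, ← map_mul, hcy, map_pow]
  have hcN : emb f c ∈ normalizer ((P : Subgroup G) : Set G) := by
    have h1 : ∀ a ∈ (P : Subgroup G), emb f c * a * (emb f c)⁻¹ ∈ (P : Subgroup G) := by
      have h2 : (P : Subgroup G) ≤ (P : Subgroup G).comap (MulAut.conj (emb f c)).toMonoidHom := by
        conv_lhs => rw [← hPE]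
        rw [closure_le]
        rintro a (rfl | ha)
        · show emb f c * emb f x * (emb f c)⁻¹ ∈ (P : Subgroup G)
          rw [hcx']; exact hxP
        · rw [Set.mem_singleton_iff.1 ha]
          show emb f c * emb f y * (emb f c)⁻¹ ∈ (P : Subgroup G)
          rw [hcy']; exact pow_mem hyP m
      exact fun a ha => h2 ha
    have h3 : (P : Subgroup G).map (MulAut.conj (emb f c)).toMonoidHom = P := by
      refine eq_of_le_of_card_ge ?_ ?_
      · rintro _ ⟨a, ha, rfl⟩
        exact h1 a ha
      · rw [card_map_of_injective (MulAut.conj (emb f c)).injective]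
    rw [mem_normalizer_iff]
    intro a
    constructor
    · exact h1 a
    · intro ha
      rw [← h3] at ha
      obtain ⟨b, hb, hb'⟩ := ha
      have h4 : emb f c * b * (emb f c)⁻¹ = emb f c * a * (emb f c)⁻¹ := hb'
      have h5 : b = a := by simpa using h4
      exact h5 ▸ hb
  have hcC : emb f c ∈ centralizer ({emb f x} : Set G) := by
    rw [mem_centralizer_singleton_iff]
    have := congrArg (· * emb f c) hcx'
    simpa using this
  have hpow : ∀ k : ℕ, emb f c ^ k * emb f y * (emb f c ^ k)⁻¹ = emb f y ^ m ^ k := by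
    intro k
    induction k with
    | zero => simp
    | succ k ih =>
      have e1 : emb f c ^ (k + 1) * emb f y * (emb f c ^ (k + 1))⁻¹ =
          emb f c * (emb f c ^ k * emb f y * (emb f c ^ k)⁻¹) * (emb f c)⁻¹ := by
        rw [pow_succ']; group
      rw [e1, ih, ← conj_pow, hcy', ← pow_mul, ← pow_succ']
  have hle := le_relIndex (C := centralizer ((P : Subgroup G) : Set G))
    (N := normalizer ((P : Subgroup G) : Set G) ⊓ centralizer ({emb f x} : Set G)) (emb f c) ⟨hcN, hcC⟩ 4 (by
      intro k hk hk4 hkC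
      have h1 : emb f c ^ k * emb f y * (emb f c ^ k)⁻¹ = emb f y := by
        rw [mul_inv_eq_iff_eq_mul]
        exact (mem_centralizer_iff.1 hkC _ hyP).symm
      rw [hpow] at h1
      have h2 : (m : ZMod 5) ^ k = 1 := by
        have h3 : emb f y ^ m ^ k = emb f y ^ 1 := by rw [h1, pow_one]
        rw [pow_eq_pow_iff_modEq, hyo, ← ZMod.natCast_eq_natCast_iff] at h3
        simpa using h3
      obtain ⟨g1, g2, g3⟩ := order_four_five (m : ZMod 5) hm
      interval_cases k
      · exact g1 h2
      · exact g2 h2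
      · exact g3 h2)
  have hmain := (H634.OneP.main hS.modular (by norm_num) P (by rw [← hPE]; exact hcard)
    (by rw [← hPE]; exact h5) hxP (by
      intro h
      rw [h, orderOf_one] at hxo
      exact absurd hxo (by norm_num)) _ rfl (by omega)).1
  omega

end Cfsg.Agent.H210.K6
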