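import Cfsg.Agent.H210.K6.Five
import Cfsg.Agent.H210.K6.Tools
import Cfsg.Agent.H166.K6.WtCyc

/-!
# S4876: weights in a group with two commuting subgroups (helper210)

`PairD p L M` (helper240): `L`, `M` commute, meet trivially, have the same order and `|G|_p ≤ |L|_p²`.  If the
`p`-subgroups of `L` and `M` are cyclic, `v` is a generator of a Sylow `p`-subgroup of `L` and `c ∈ M` acts on a
`p`-element of `M` as the power `j`, then the weight of `v` is at least the order of `j` modulo `p`.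
-/

set_option autoImplicit false

open Cfsg Subgroup

namespace Cfsg.Agent.H210.K6

open Cfsg.Agent.H61.K6 Cfsg.Agent.H240.GenTwF

universe u v w

/-- cyclic modulo `⟨v⟩` -/
theorem cyc_mod {G : Type*} [Group G] {v w : G} (hvw : v * w = w * v) {Q : Subgroup G}
    (hQ : ∀ h ∈ Q, ∃ i k : ℤ, h = v ^ i * w ^ k) : ∃ g ∈ Q, ∀ h ∈ Q, ∃ i k : ℤ, h = g ^ i * v ^ k := by
  have hc : Commute v w := hvw
  have hmul : ∀ i k i' k' : ℤ, v ^ i * w ^ k * (v ^ i' * w ^ k') = v ^ (i + i') * w ^ (k + k') := by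
    intro i k i' k'
    rw [zpow_add, zpow_add]
    have := (hc.zpow_zpow i' k).eq
    calc v ^ i * w ^ k * (v ^ i' * w ^ k') = v ^ i * (w ^ k * v ^ i') * w ^ k' := by group
      _ = _ := by rw [← this]; group
  have hinv : ∀ i k : ℤ, (v ^ i * w ^ k)⁻¹ = v ^ (-i) * w ^ (-k) := by
    intro i k
    rw [mul_inv_rev, zpow_neg, zpow_neg]
    exact ((hc.zpow_zpow i k).inv_inv).eq.symm
  let J : AddSubgroup ℤ :=
    { carrier := {k | ∃ i : ℤ, v ^ i * w ^ k ∈ Q}
      zero_mem' := ⟨0, by rw [zpow_zero, zpow_zero, mul_one]; exact one_mem _⟩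
      add_mem' := by
        rintro a b ⟨i, hi⟩ ⟨i', hi'⟩
        exact ⟨i + i', by rw [← hmul]; exact mul_mem hi hi'⟩
      neg_mem' := by
        rintro a ⟨i, hi⟩
        exact ⟨-i, by rw [← hinv]; exact inv_mem hi⟩ }
  obtain ⟨d, hd⟩ := Int.subgroup_cyclic J
  have hdJ : d ∈ J := by rw [hd]; exact AddSubgroup.subset_closure rfl
  obtain ⟨i0, hi0⟩ := hdJ
  refine ⟨_, hi0, fun h hh => ?_⟩
  obtain ⟨i, k, rfl⟩ := hQ h hh
  have hk : k ∈ J := ⟨i, hh⟩
  rw [hd, AddSubgroup.mem_closure_singleton] at hk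
  obtain ⟨n, hn⟩ := hk
  have hpow : ∀ n : ℤ, (v ^ i0 * w ^ d) ^ n = v ^ (i0 * n) * w ^ (d * n) := by
    intro n
    rw [(hc.zpow_zpow i0 d).mul_zpow, ← zpow_mul, ← zpow_mul]
  refine ⟨n, i - i0 * n, ?_⟩
  have hnd : d * n = k := by rw [← hn, smul_eq_mul, mul_comm]
  rw [hpow, hnd, zpow_sub]
  have h1 := (hc.zpow_zpow (i0 * n) k).eq
  have h2 := (hc.zpow_zpow i k).eq
  calc v ^ i * w ^ k = w ^ k * v ^ i := h2
    _ = w ^ k * v ^ (i0 * n) * (v ^ i * (v ^ (i0 * n))⁻¹) := by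
        rw [((Commute.refl v).zpow_zpow i (i0 * n)).inv_right.eq]; group
    _ = _ := by rw [← h1]

variable {G : Type u} [Group G] [Finite G] {p : ℕ} [hp : Fact p.Prime] {L M : Subgroup G}

/-- the generator of a Sylow subgroup -/
theorem exists_gen (hcL : ∀ P : Subgroup G, P ≤ L → IsPGroup p P → IsCyclic P) :
    ∃ v ∈ L, orderOf v = p ^ (Nat.card L).factorization p := by
  obtain ⟨P⟩ : Nonempty (Sylow p L) := inferInstance
  have h1 : IsCyclic ((P : Subgroup L).map L.subtype) := hcL _ (map_subtype_le _) (P.isPGroup'.map _)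
  obtain ⟨⟨v, hv⟩, hgen⟩ := h1.exists_generator
  refine ⟨v, map_subtype_le _ hv, ?_⟩
  have h2 : orderOf (⟨v, hv⟩ : (P : Subgroup L).map L.subtype) = Nat.card ((P : Subgroup L).map L.subtype) :=
    orderOf_eq_card_of_forall_mem_zpowers hgen
  rw [Subgroup.orderOf_mk] at h2
  rw [h2, card_map_of_injective L.subtype_injective, P.card_eq_multiplicity]

theorem wt_pair (h : PairD p L M) (hcL : ∀ P : Subgroup G, P ≤ L → IsPGroup p P → IsCyclic P)
    (hcM : ∀ P : Subgroup G, P ≤ M → IsPGroup p P → IsCyclic P) {y c : G} (hy : y ∈ M)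
    (hyo : ∃ k : ℕ, orderOf y = p ^ k) (hy1 : y ≠ 1) (hcm : c ∈ M) {j : ℕ} (hcy : c * y * c⁻¹ = y ^ j) :
    ∃ v ∈ L, orderOf v = p ^ (Nat.card L).factorization p ∧ WtGe.{w, u} p v (orderOf (j : ZMod p)) := by
  classical
  obtain ⟨v, hv, hvo⟩ := exists_gen hcL
  obtain ⟨w, hw, hwo⟩ := exists_gen hcM
  rw [h.card] at hwo
  have hvw : v * w = w * v := h.comm v hv w hw
  refine ⟨v, hv, hvo, H166.K6.wtGe_of_cyc (y := y) (c := c) ⟨_, hvo⟩ (h.comm v hv y hy).symm (h.comm v hv c hcm).symm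
    hyo (fun hmem => hy1 (h.inf y ((zpowers_le.2 hv) hmem) hy)) hcy ?_⟩
  intro Q hQ hQv
  -- the subgroup `⟨v⟩ ⟨w⟩`
  have hc : Commute v w := hvw
  let R : Subgroup G :=
    { carrier := {g | ∃ i k : ℤ, g = v ^ i * w ^ k}
      one_mem' := ⟨0, 0, by simp⟩
      mul_mem' := by
        rintro _ _ ⟨i, k, rfl⟩ ⟨i', k', rfl⟩
        refine ⟨i + i', k + k', ?_⟩
        rw [zpow_add, zpow_add]
        have := (hc.zpow_zpow i' k).eq
        calc v ^ i * w ^ k * (v ^ i' * w ^ k') = v ^ i * (w ^ k * v ^ i') * w ^ k' := by group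
          _ = _ := by rw [← this]; group
      inv_mem' := by
        rintro _ ⟨i, k, rfl⟩
        refine ⟨-i, -k, ?_⟩
        rw [mul_inv_rev, zpow_neg, zpow_neg]
        exact ((hc.zpow_zpow i k).inv_inv).eq.symm }
  have hRC : R ≤ centralizer ({v} : Set G) := by
    rintro _ ⟨i, k, rfl⟩
    rw [mem_centralizer_singleton_iff]
    exact (((Commute.refl v).zpow_left i).mul_left (hc.symm.zpow_left k)).eq
  have hRcard : Nat.card R = p ^ (2 * (Nat.card L).factorization p) := by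
    have hb : Function.Bijective (fun a : zpowers v × zpowers w => (⟨(a.1 : G) * (a.2 : G), by
        obtain ⟨i, hi⟩ := a.1.2
        obtain ⟨k, hk⟩ := a.2.2
        exact ⟨i, k, by rw [← hi, ← hk]⟩⟩ : R)) := by
      constructor
      · rintro ⟨⟨a, ha⟩, ⟨b, hb⟩⟩ ⟨⟨a', ha'⟩, ⟨b', hb'⟩⟩ hab
        have h1 : a * b = a' * b' := congrArg Subtype.val hab
        obtain ⟨rfl, rfl⟩ := h.uniq (zpowers_le.2 hv ha) (zpowers_le.2 hw hb) (zpowers_le.2 hv ha')
          (zpowers_le.2 hw hb') h1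
        rfl
      · rintro ⟨_, i, k, rfl⟩
        exact ⟨⟨⟨v ^ i, ⟨i, rfl⟩⟩, ⟨w ^ k, ⟨k, rfl⟩⟩⟩, rfl⟩
    rw [← Nat.card_congr (Equiv.ofBijective _ hb), Nat.card_prod, Nat.card_zpowers, Nat.card_zpowers, hvo, hwo,
      two_mul, pow_add]
  -- `R` is a Sylow subgroup of `C(v)`
  set C := centralizer ({v} : Set G) with hCdef
  have hidx : ¬ p ∣ (R.subgroupOf C).index := by
    intro hd
    have h1 := (R.subgroupOf C).card_mul_index
    rw [Nat.card_congr (subgroupOfEquivOfLe hRC).toEquiv, hRcard] at h1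
    have h2 : p ^ (2 * (Nat.card L).factorization p + 1) ∣ Nat.card G := by
      rw [pow_succ]
      exact (mul_dvd_mul_left _ hd).trans (h1 ▸ card_subgroup_dvd_card C)
    have h3 := (hp.out.pow_dvd_iff_le_factorization Nat.card_pos.ne').1 h2
    have h4 := h.fact
    omega
  have hQC : Q ≤ C := fun q hq => mem_centralizer_singleton_iff.2 (hQv q hq)
  have hQ' : IsPGroup p (Q.subgroupOf C) := hQ.comap_subtype
  obtain ⟨⟨g, hgC⟩, hg⟩ := H240.BalTwF.exists_conj_le hp.out hidx hQ'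
  have hgv : g * v = v * g := mem_centralizer_singleton_iff.1 hgC
  have hQR : ∀ q ∈ Q, g * q * g⁻¹ ∈ R := fun q hq => hg ⟨q, hQC hq⟩ hq
  have hgv' : g⁻¹ * v * g = v := by rw [mul_assoc, ← hgv]; group
  refine cyc_mod (v := v) (w := g⁻¹ * w * g) ?_ fun q hq => ?_
  · calc v * (g⁻¹ * w * g) = (g⁻¹ * v * g) * (g⁻¹ * w * g) := by rw [hgv']
      _ = g⁻¹ * (v * w) * g := by group
      _ = g⁻¹ * (w * v) * g := by rw [hvw]
      _ = (g⁻¹ * w * g) * (g⁻¹ * v * g) := by group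
      _ = _ := by rw [hgv']
  · obtain ⟨i, k, hik⟩ := hQR q hq
    refine ⟨i, k, ?_⟩
    have h1 : q = g⁻¹ * (g * q * g⁻¹) * g := by group
    rw [h1, hik]
    have h2 : (g⁻¹ * w * g) ^ k = g⁻¹ * w ^ k * g := by
      have := conj_zpow (i := k) (a := g⁻¹) (b := w)
      rwa [inv_inv] at this
    have h3 : v ^ i = g⁻¹ * v ^ i * g := by
      have := conj_zpow (i := i) (a := g⁻¹) (b := v)
      rw [inv_inv, hgv'] at this
      exact this
    rw [h2]
    calc g⁻¹ * (v ^ i * w ^ k) * g = (g⁻¹ * v ^ i * g) * (g⁻¹ * w ^ k * g) := by group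
      _ = _ := by rw [← h3]

end Cfsg.Agent.H210.K6
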