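import Cfsg.Agent.H210.K6.Tools
import Cfsg.Agent.H650.E27Central
import Cfsg.Agent.H774.K0.Six

/-!
# S4876: an element of order 3 of weight at least five (helper210)

* `five_le` : `C` with Sylow 3-subgroups extraspecial of order 27 and exponent 3, `z` in the centre of `C`, and
  all 3-elements of `C` outside `⟨z⟩` conjugate: `5 ≤ l(B₀(C))`;
* `wtGe_five`, `KRow.of_extra` : the same in a situation.
-/

set_option autoImplicit false

open Cfsg Subgroup

namespace Cfsg.Agent.H210.K6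

open Cfsg.Agent.H61.K6 Cfsg.Agent.H650.E27

/-- generators of an extraspecial group of order 27 and two elements which act on it -/
structure ExtraDat {C : Type*} [Group C] (x y z s t : C) : Prop where
  x3 : x ^ 3 = 1
  y3 : y ^ 3 = 1
  zx : z * x = x * z
  zy : z * y = y * z
  xy : x * y = z * (y * x)
  z1 : z ≠ 1
  zs : z * s = s * z
  zt : z * t = t * z
  sx : ∃ k : ℕ, s * x = y * z ^ k * s
  sy : ∃ k : ℕ, s * y = x ^ 2 * z ^ k * s
  tx : ∃ k : ℕ, t * x = x * y * z ^ k * t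

universe u w

variable {C : Type*} [Group C] {x y z s t : C}

theorem ExtraDat.map (h : ExtraDat x y z s t) {D : Type*} [Group D] (f : C →* D) (hf : Function.Injective f) :
    ExtraDat (f x) (f y) (f z) (f s) (f t) where
  x3 := by rw [← map_pow, h.x3, map_one]
  y3 := by rw [← map_pow, h.y3, map_one]
  zx := by rw [← map_mul, h.zx, map_mul]
  zy := by rw [← map_mul, h.zy, map_mul]
  xy := by rw [← map_mul, h.xy, map_mul, map_mul]
  z1 := fun e => h.z1 (hf (e.trans (map_one f).symm))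
  zs := by rw [← map_mul, h.zs, map_mul]
  zt := by rw [← map_mul, h.zt, map_mul]
  sx := by
    obtain ⟨k, hk⟩ := h.sx
    exact ⟨k, by rw [← map_mul, hk, map_mul, map_mul, map_pow]⟩
  sy := by
    obtain ⟨k, hk⟩ := h.sy
    exact ⟨k, by rw [← map_mul, hk, map_mul, map_mul, map_pow, map_pow]⟩
  tx := by
    obtain ⟨k, hk⟩ := h.tx
    exact ⟨k, by rw [← map_mul, hk, map_mul, map_mul, map_mul, map_pow]⟩

theorem ExtraDat.xyx (h : ExtraDat x y z s t) : x * y * x⁻¹ = z * y := by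
  rw [h.xy]; group

theorem ExtraDat.yxy (h : ExtraDat x y z s t) : y⁻¹ * x * y = z * x := by
  have h1 : y⁻¹ * x * y = y⁻¹ * (z * (y * x)) := by rw [← h.xy]; group
  rw [h1]
  calc y⁻¹ * (z * (y * x)) = y⁻¹ * (z * y) * x := by group
    _ = y⁻¹ * (y * z) * x := by rw [h.zy]
    _ = z * x := by group

theorem ExtraDat.z3 (h : ExtraDat x y z s t) : z ^ 3 = 1 := by
  have h1 := h.xyx
  have h2 : (x * y * x⁻¹) ^ 3 = 1 := by rw [conj_pow, h.y3]; group
  rwa [h1, (show Commute z y from h.zy).mul_pow, h.y3, mul_one] at h2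

theorem ExtraDat.z_order (h : ExtraDat x y z s t) : orderOf z = 3 :=
  orderOf_eq_prime (hp := ⟨Nat.prime_three⟩) h.z3 h.z1

theorem ExtraDat.cxy (h : ExtraDat x y z s t) (i j : ℤ) : x ^ j * y ^ i = y ^ i * x ^ j * z ^ (i * j) := by
  have h1 : x * y ^ i * x⁻¹ = z ^ i * y ^ i := by
    rw [← conj_zpow, h.xyx, (show Commute z y from h.zy).mul_zpow]
  have hzy : ∀ a b : ℤ, z ^ a * y ^ b = y ^ b * z ^ a := fun a b => ((show Commute z y from h.zy).zpow_zpow a b).eq
  have hzx : ∀ a b : ℤ, z ^ a * x ^ b = x ^ b * z ^ a := fun a b => ((show Commute z x from h.zx).zpow_zpow a b).eq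
  have h2 : (y ^ i)⁻¹ * x * y ^ i = z ^ i * x := by
    have h3 : x * y ^ i = z ^ i * y ^ i * x := by rw [← h1]; group
    rw [mul_assoc, h3]
    calc (y ^ i)⁻¹ * (z ^ i * y ^ i * x) = (y ^ i)⁻¹ * (z ^ i * y ^ i) * x := by group
      _ = (y ^ i)⁻¹ * (y ^ i * z ^ i) * x := by rw [hzy]
      _ = _ := by group
  have h3 : (y ^ i)⁻¹ * x ^ j * y ^ i = z ^ (i * j) * x ^ j := by
    have h4 := conj_zpow (a := (y ^ i)⁻¹) (b := x) (i := j)
    rw [inv_inv, h2, (((show Commute z x from h.zx).zpow_left i)).mul_zpow, ← zpow_mul] at h4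
    exact h4.symm
  calc x ^ j * y ^ i = y ^ i * ((y ^ i)⁻¹ * x ^ j * y ^ i) := by group
    _ = y ^ i * (z ^ (i * j) * x ^ j) := by rw [h3]
    _ = _ := by rw [hzx]; group

/-- the extraspecial group -/
def ExtraDat.E (h : ExtraDat x y z s t) : Subgroup C where
  carrier := {g | ∃ i j k : ℤ, g = y ^ i * x ^ j * z ^ k}
  one_mem' := ⟨0, 0, 0, by simp⟩
  mul_mem' := by
    rintro _ _ ⟨i, j, k, rfl⟩ ⟨i', j', k', rfl⟩
    have hzy : ∀ a b : ℤ, z ^ a * y ^ b = y ^ b * z ^ a := fun a b =>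
      ((show Commute z y from h.zy).zpow_zpow a b).eq
    have hzx : ∀ a b : ℤ, z ^ a * x ^ b = x ^ b * z ^ a := fun a b =>
      ((show Commute z x from h.zx).zpow_zpow a b).eq
    refine ⟨i + i', j + j', i' * j + k + k', ?_⟩
    calc y ^ i * x ^ j * z ^ k * (y ^ i' * x ^ j' * z ^ k')
        = y ^ i * x ^ j * (z ^ k * y ^ i') * x ^ j' * z ^ k' := by group
      _ = y ^ i * (x ^ j * y ^ i') * (z ^ k * x ^ j') * z ^ k' := by rw [hzy]; group
      _ = y ^ i * y ^ i' * x ^ j * (z ^ (i' * j + k) * x ^ j') * z ^ k' := by rw [h.cxy]; group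
      _ = y ^ (i + i') * x ^ (j + j') * z ^ (i' * j + k + k') := by rw [hzx]; group
  inv_mem' := by
    rintro _ ⟨i, j, k, rfl⟩
    have hzy : ∀ a b : ℤ, z ^ a * y ^ b = y ^ b * z ^ a := fun a b =>
      ((show Commute z y from h.zy).zpow_zpow a b).eq
    have hzx : ∀ a b : ℤ, z ^ a * x ^ b = x ^ b * z ^ a := fun a b =>
      ((show Commute z x from h.zx).zpow_zpow a b).eq
    refine ⟨-i, -j, i * j - k, ?_⟩
    have h1 := h.cxy (-i) (-j)
    calc (y ^ i * x ^ j * z ^ k)⁻¹ = z ^ (-k) * (x ^ (-j) * y ^ (-i)) := by group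
      _ = z ^ (-k) * (y ^ (-i) * x ^ (-j) * z ^ (i * j)) := by rw [h1, neg_mul_neg]
      _ = (z ^ (-k) * y ^ (-i)) * x ^ (-j) * z ^ (i * j) := by group
      _ = y ^ (-i) * (z ^ (-k) * x ^ (-j)) * z ^ (i * j) := by rw [hzy]; group
      _ = y ^ (-i) * x ^ (-j) * z ^ (i * j - k) := by rw [hzx]; group

theorem ExtraDat.mem_E (h : ExtraDat x y z s t) {g : C} : g ∈ h.E ↔ ∃ i j k : ℤ, g = y ^ i * x ^ j * z ^ k := Iff.rfl

theorem ExtraDat.xE (h : ExtraDat x y z s t) : x ∈ h.E := ⟨0, 1, 0, by simp⟩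
theorem ExtraDat.yE (h : ExtraDat x y z s t) : y ∈ h.E := ⟨1, 0, 0, by simp⟩
theorem ExtraDat.zE (h : ExtraDat x y z s t) : z ∈ h.E := ⟨0, 0, 1, by simp⟩

theorem ExtraDat.noncomm (h : ExtraDat x y z s t) : x * y ≠ y * x := fun e => h.z1 (by
  have := h.xy
  rw [e] at this
  exact (mul_eq_right.1 this.symm))

/-- conjugation by `x ^ i` -/
theorem ExtraDat.conj_x (h : ExtraDat x y z s t) (i j k : ℤ) :
    x ^ i * (y ^ i * x ^ j * z ^ k) * (x ^ i)⁻¹ = (y ^ i * x ^ j * z ^ k) * z ^ (i * i) := by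
  have hzx : ∀ a b : ℤ, z ^ a * x ^ b = x ^ b * z ^ a := fun a b => ((show Commute z x from h.zx).zpow_zpow a b).eq
  calc x ^ i * (y ^ i * x ^ j * z ^ k) * (x ^ i)⁻¹ = (x ^ i * y ^ i) * x ^ j * (z ^ k * x ^ (-i)) := by group
    _ = y ^ i * x ^ i * (z ^ (i * i) * x ^ (j - i)) * z ^ k := by rw [h.cxy, hzx k]; group
    _ = _ := by rw [hzx]; group

theorem ExtraDat.conj_y (h : ExtraDat x y z s t) (i j k : ℤ) :
    y ^ (-j) * (y ^ i * x ^ j * z ^ k) * (y ^ (-j))⁻¹ = (y ^ i * x ^ j * z ^ k) * z ^ (j * j) := by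
  have hzy : ∀ a b : ℤ, z ^ a * y ^ b = y ^ b * z ^ a := fun a b => ((show Commute z y from h.zy).zpow_zpow a b).eq
  calc y ^ (-j) * (y ^ i * x ^ j * z ^ k) * (y ^ (-j))⁻¹ = y ^ (i - j) * x ^ j * (z ^ k * y ^ j) := by group
    _ = y ^ (i - j) * (x ^ j * y ^ j) * z ^ k := by rw [hzy]; group
    _ = _ := by rw [h.cxy]; group

theorem ExtraDat.zpow_sq (h : ExtraDat x y z s t) {i : ℤ} (hi : ¬ (3 : ℤ) ∣ i) : z ^ (i * i) = z := by
  have h3 : (3 : ℤ) ∣ i * i - 1 := by
    have h1 : i % 3 = 1 ∨ i % 3 = 2 := by omega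
    obtain ⟨a, ha⟩ : ∃ a, i = 3 * a + i % 3 := ⟨i / 3, by omega⟩
    rcases h1 with h1 | h1 <;> rw [h1] at ha <;> rw [ha]
    · exact ⟨3 * a * a + 2 * a, by ring⟩
    · exact ⟨3 * a * a + 4 * a + 1, by ring⟩
  obtain ⟨b, hb⟩ := h3
  have h4 : i * i = 3 * b + 1 := by linarith
  rw [h4, zpow_add, zpow_one, zpow_mul]
  have : z ^ (3 : ℤ) = 1 := by
    have := h.z3
    rw [← zpow_natCast] at this
    exact this
  rw [this, one_zpow, one_mul]

theorem ExtraDat.zpow_dvd {g : C} (hg : g ^ 3 = 1) {i : ℤ} (hi : (3 : ℤ) ∣ i) : g ^ i = 1 := by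
  obtain ⟨a, rfl⟩ := hi
  rw [zpow_mul]
  have : g ^ (3 : ℤ) = 1 := by
    rw [← zpow_natCast] at hg
    exact hg
  rw [this, one_zpow]

/-- elements of `E` outside `⟨z⟩` are conjugate under `E` to their product with `z` -/
theorem ExtraDat.conjE (h : ExtraDat x y z s t) {g : C} (hg : g ∈ h.E) (hgz : g ∉ zpowers z) :
    ∃ c ∈ h.E, c * g * c⁻¹ = g * z := by
  obtain ⟨i, j, k, rfl⟩ := hg
  by_cases hi : (3 : ℤ) ∣ i
  · by_cases hj : (3 : ℤ) ∣ j
    · exfalso
      apply hgz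
      rw [ExtraDat.zpow_dvd h.y3 hi, ExtraDat.zpow_dvd h.x3 hj, one_mul, one_mul]
      exact zpow_mem (mem_zpowers z) k
    · exact ⟨y ^ (-j), zpow_mem h.yE _, by rw [h.conj_y, h.zpow_sq hj]⟩
  · exact ⟨x ^ i, zpow_mem h.xE _, by rw [h.conj_x, h.zpow_sq hi]⟩

theorem ExtraDat.pow9 (h : ExtraDat x y z s t) (hzc : z ∈ center C) {g : C} (hg : g ∈ h.E) : g ^ 9 = 1 := by
  by_cases hgz : g ∈ zpowers z
  · obtain ⟨i, rfl⟩ := hgz
    show (z ^ i) ^ 9 = 1
    rw [← zpow_natCast, ← zpow_mul, mul_comm, zpow_mul, zpow_natCast, show 9 = 3 * 3 by norm_num, pow_mul, h.z3,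
      one_pow, one_zpow]
  · have hn : (zpowers z).Normal := ⟨fun n hn g => by
      obtain ⟨i, rfl⟩ := hn
      have h1 : ∀ g : C, g * z ^ i = z ^ i * g := fun g => mem_center_iff.1 (zpow_mem hzc i) g
      show g * z ^ i * g⁻¹ ∈ zpowers z
      rw [h1, mul_inv_cancel_right]
      exact zpow_mem (mem_zpowers z) i⟩
    obtain ⟨i, j, k, rfl⟩ := hg
    have h1 : (QuotientGroup.mk ((y ^ i * x ^ j * z ^ k) ^ 3) : C ⧸ zpowers z) = 1 := by
      have hz1 : (QuotientGroup.mk z : C ⧸ zpowers z) = 1 := (QuotientGroup.eq_one_iff z).2 (mem_zpowers z)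
      have hc : Commute (QuotientGroup.mk y : C ⧸ zpowers z) (QuotientGroup.mk x) := by
        have e : (QuotientGroup.mk (x * y) : C ⧸ zpowers z) = QuotientGroup.mk (z * (y * x)) := by rw [h.xy]
        have e' : (QuotientGroup.mk x : C ⧸ zpowers z) * QuotientGroup.mk y =
          QuotientGroup.mk z * (QuotientGroup.mk y * QuotientGroup.mk x) := e
        rw [hz1, one_mul] at e'
        exact e'.symm
      rw [QuotientGroup.mk_pow, QuotientGroup.mk_mul, QuotientGroup.mk_mul, QuotientGroup.mk_zpow,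
        QuotientGroup.mk_zpow, QuotientGroup.mk_zpow, hz1, one_zpow, mul_one, (hc.zpow_zpow i j).mul_pow,
        ← zpow_natCast, ← zpow_natCast, ← zpow_mul, ← zpow_mul, mul_comm i, mul_comm j, zpow_mul, zpow_mul,
        zpow_natCast, zpow_natCast, ← QuotientGroup.mk_pow, ← QuotientGroup.mk_pow, h.y3, h.x3, QuotientGroup.mk_one,
        one_zpow, one_zpow, one_mul]
    rw [QuotientGroup.eq_one_iff] at h1
    obtain ⟨a, ha⟩ := h1
    have ha' : z ^ a = (y ^ i * x ^ j * z ^ k) ^ 3 := ha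
    rw [show 9 = 3 * 3 by norm_num, pow_mul, ← ha', ← zpow_natCast, ← zpow_mul, mul_comm, zpow_mul, zpow_natCast, h.z3,
      one_zpow]

theorem ExtraDat.isPGroup (h : ExtraDat x y z s t) (hzc : z ∈ center C) : IsPGroup 3 h.E := by
  intro g
  exact ⟨2, Subtype.ext (by
    rw [Subgroup.coe_pow, Subgroup.coe_one]
    exact h.pow9 hzc g.2)⟩

/-- groups of order dividing `p²` are abelian -/
theorem comm_of_card {A : Type*} [Group A] [Finite A] {p n : ℕ} [hp : Fact p.Prime] (hn : n ≤ 2)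
    (hA : Nat.card A = p ^ n) (a b : A) : a * b = b * a := by
  rcases (by omega : n = 0 ∨ n = 1 ∨ n = 2) with rfl | rfl | rfl
  · rw [pow_zero, Nat.card_eq_one_iff_unique] at hA
    have := hA.1
    exact Subsingleton.elim _ _
  · rw [pow_one] at hA
    have := isCyclic_of_prime_card hA
    exact (IsCyclic.isMulCommutative (α := A)).is_comm.comm a b
  · exact (IsPGroup.isMulCommutative_of_card_eq_prime_sq hA).is_comm.comm a b

/-- `E` is a Sylow subgroup -/
theorem ExtraDat.sylow [Finite C] (h : ExtraDat x y z s t) (hzc : z ∈ center C) (h81 : ¬ 81 ∣ Nat.card C) :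
    ∃ P : Sylow 3 C, (P : Subgroup C) = h.E ∧ Nat.card P = 27 := by
  have h3 : Fact (Nat.Prime 3) := ⟨Nat.prime_three⟩
  obtain ⟨P, hP⟩ := (h.isPGroup hzc).exists_le_sylow
  obtain ⟨n, hn⟩ := IsPGroup.iff_card.1 (h.isPGroup hzc)
  obtain ⟨m, hm⟩ := IsPGroup.iff_card.1 P.isPGroup'
  have hm3 : m ≤ 3 := by
    by_contra hcon
    exact h81 ((show 81 ∣ 3 ^ m from by
      rw [show 81 = 3 ^ 4 by norm_num]
      exact pow_dvd_pow 3 (by omega)).trans (hm ▸ card_subgroup_dvd_card _))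
  have hn3 : 3 ≤ n := by
    by_contra hcon
    exact h.noncomm (congrArg Subtype.val (comm_of_card (p := 3) (by omega) hn (⟨x, h.xE⟩ : h.E) ⟨y, h.yE⟩))
  have hle : n ≤ m := by
    have := card_dvd_of_le hP
    rw [hn, hm] at this
    exact (Nat.pow_dvd_pow_iff_le_right (by norm_num)).1 this
  refine ⟨P, (eq_of_le_of_card_ge hP ?_).symm, ?_⟩
  · rw [hn, hm]; exact Nat.pow_le_pow_right (by norm_num) (by omega)
  · have : Nat.card (P : Subgroup C) = 3 ^ m := hm
    rw [show m = 3 by omega] at this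
    exact this

theorem ExtraDat.dat (h : ExtraDat x y z s t) (hzc : z ∈ center C) {P : Sylow 3 C} (hP : (P : Subgroup C) = h.E)
    (hP27 : Nat.card P = 27) : E27Dat P z where
  hzc := hzc
  hz3 := h.z_order
  hcard := hP27
  hnc := by
    intro u hu huz
    have hu' : u ∈ h.E := hP ▸ hu
    obtain ⟨c, hc, hcu⟩ := h.conjE hu' huz
    refine ⟨c, (hP.symm ▸ hc : c ∈ (P : Subgroup C)), fun e => h.z1 ?_⟩
    rw [e, mul_inv_cancel_right] at hcu
    exact (mul_eq_left.1 hcu.symm)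
  hconj := by
    intro u hu huz
    have hu' : u ∈ h.E := hP ▸ hu
    obtain ⟨c, -, hcu⟩ := h.conjE hu' huz
    exact ⟨c, hcu⟩

/-- transitivity -/
theorem trans_nine {Q : Type*} [Group Q] {x y s t : Q} (hx : x ^ 3 = 1) (hy : y ^ 3 = 1) (hxy : x * y = y * x)
    (hsx : s * x = y * s) (hsy : s * y = x ^ 2 * s) (htx : t * x = x * y * t) {i j : ℤ}
    (hij : ¬ ((3 : ℤ) ∣ i ∧ (3 : ℤ) ∣ j)) : IsConj x (y ^ i * x ^ j) := by
  have cs : ∀ a b : ℕ, IsConj (x ^ a * y ^ b) (y ^ a * x ^ (2 * b)) := by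
    intro a b
    refine isConj_iff.2 ⟨s, ?_⟩
    have h1 : s * x * s⁻¹ = y := by rw [hsx]; group
    have h2 : s * y * s⁻¹ = x ^ 2 := by rw [hsy]; group
    calc s * (x ^ a * y ^ b) * s⁻¹ = (s * x ^ a * s⁻¹) * (s * y ^ b * s⁻¹) := by group
      _ = (s * x * s⁻¹) ^ a * (s * y * s⁻¹) ^ b := by rw [conj_pow, conj_pow]
      _ = _ := by rw [h1, h2, pow_mul]
  have ct : IsConj x (x * y) := isConj_iff.2 ⟨t, by rw [htx]; group⟩
  have hc : Commute x y := hxy
  have hx4 : x ^ 4 = x := by rw [show 4 = 3 + 1 by norm_num, pow_add, hx, one_mul, pow_one]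
  have red : ∀ (g : Q), g ^ 3 = 1 → ∀ i : ℤ, g ^ i = g ^ (i % 3) := by
    intro g hg i
    conv_lhs => rw [← Int.emod_add_mul_ediv i 3]
    rw [zpow_add, ExtraDat.zpow_dvd hg ⟨i / 3, rfl⟩, mul_one]
  -- the eight conjugates
  have k10 : IsConj x x := IsConj.refl x
  have k01 : IsConj x y := by simpa using cs 1 0
  have k20 : IsConj x (x ^ 2) := k01.trans (by simpa using cs 0 1)
  have k02 : IsConj x (y ^ 2) := k20.trans (by simpa using cs 2 0)
  have k11 : IsConj x (x * y) := ct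
  have k21 : IsConj x (y * x ^ 2) := k11.trans (by simpa using cs 1 1)
  have k22 : IsConj x (y ^ 2 * x ^ 2) := k21.trans (by
    have := cs 2 1
    rwa [pow_one, (hc.pow_left 2).eq] at this)
  have k12 : IsConj x (y ^ 2 * x) := k22.trans (by
    have := cs 2 2
    rwa [((hc.pow_left 2).pow_right 2).eq, show 2 * 2 = 4 by norm_num, hx4] at this)
  rw [red y hy i, red x hx j]
  have hi : i % 3 = 0 ∨ i % 3 = 1 ∨ i % 3 = 2 := by omega
  have hj : j % 3 = 0 ∨ j % 3 = 1 ∨ j % 3 = 2 := by omega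
  have e2 : ∀ g : Q, g ^ (2 : ℤ) = g ^ 2 := fun g => by rw [← zpow_natCast]; rfl
  rcases hi with hi | hi | hi <;> rcases hj with hj | hj | hj <;> rw [hi, hj] <;>
    simp only [zpow_zero, zpow_one, one_mul, mul_one, e2]
  · exact absurd ⟨by omega, by omega⟩ hij
  · exact k10
  · exact k20
  · exact k01
  · rw [← hxy]; exact k11
  · exact k21
  · exact k02
  · exact k12
  · exact k22

/-- **an element of order 3 of weight at least five** -/
theorem five_le [Finite C] {M : Ideal AlgInt} (hM : IsPModular 3 M) (h : ExtraDat x y z s t) (hzc : z ∈ center C)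
    (h81 : ¬ 81 ∣ Nat.card C) : 5 ≤ blockRank 3 (principalBlock M C) := by
  classical
  have h3 : Fact (Nat.Prime 3) := ⟨Nat.prime_three⟩
  obtain ⟨P, hP, hP27⟩ := h.sylow hzc h81
  have hD := h.dat hzc hP hP27
  have hn := zpowers_normal hD
  have hzle := zpowers_le_center hD
  rw [blockRank_quot hM hzle (isPGroup_zpowers_z hD)]
  set π : C → C ⧸ zpowers z := QuotientGroup.mk with hπ
  have hmul : ∀ a b : C, π (a * b) = π a * π b := fun _ _ => rfl
  have hz1 : π z = 1 := (QuotientGroup.eq_one_iff z).2 (mem_zpowers z)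
  have hzk : ∀ k : ℕ, π (z ^ k) = 1 := fun k => (QuotientGroup.eq_one_iff _).2 (pow_mem (mem_zpowers z) k)
  have hx3 : π x ^ 3 = 1 := by
    show π (x ^ 3) = 1
    rw [h.x3]; rfl
  have hy3 : π y ^ 3 = 1 := by
    show π (y ^ 3) = 1
    rw [h.y3]; rfl
  have hxy : π x * π y = π y * π x := by
    rw [← hmul, h.xy, hmul, hz1, one_mul, hmul]
  have hsx : π s * π x = π y * π s := by
    obtain ⟨k, hk⟩ := h.sx
    rw [← hmul, hk, hmul, hmul, hzk, mul_one]
  have hsy : π s * π y = π x ^ 2 * π s := by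
    obtain ⟨k, hk⟩ := h.sy
    rw [← hmul, hk, hmul, hmul, hzk, mul_one]; rfl
  have htx : π t * π x = π x * π y * π t := by
    obtain ⟨k, hk⟩ := h.tx
    rw [← hmul, hk, hmul, hmul, hmul, hzk, mul_one]
  have hxz : x ∉ zpowers z := fun hx => h.noncomm (mem_center_iff.1 (hzle hx) y).symm
  have hx1 : π x ≠ 1 := fun e => hxz ((QuotientGroup.eq_one_iff x).1 e)
  have hxo : orderOf (π x) = 3 := orderOf_eq_prime hx3 hx1
  -- the nontrivial 3-elements of the quotient are conjugate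
  have hall : ∀ q : C ⧸ zpowers z, (∃ k : ℕ, orderOf q = 3 ^ k) → q ≠ 1 → IsConj (π x) q := by
    intro q hq hq1
    obtain ⟨g, rfl⟩ := QuotientGroup.mk_surjective q
    have hg := (mk_mem_iff_three hD g).1 hq
    obtain ⟨c, hc, -⟩ := exists_conj_mem P hg hg rfl
    rw [hP] at hc
    obtain ⟨i, j, k, hk⟩ := hc
    have h1 : π c * π g * (π c)⁻¹ = π y ^ i * π x ^ j := by
      have h2 : π (c * g * c⁻¹) = π (y ^ i * x ^ j * z ^ k) := by rw [hk]
      have h3 : π (y ^ i * x ^ j * z ^ k) = π y ^ i * π x ^ j * π z ^ k := rfl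
      have h4 : π (c * g * c⁻¹) = π c * π g * (π c)⁻¹ := rfl
      rw [← h4, h2, h3, hz1, one_zpow, mul_one]
    have h5 : IsConj (π g) (π y ^ i * π x ^ j) := isConj_iff.2 ⟨π c, h1⟩
    refine (trans_nine hx3 hy3 hxy hsx hsy htx ?_).trans h5.symm
    rintro ⟨hi, hj⟩
    rw [ExtraDat.zpow_dvd hy3 hi, ExtraDat.zpow_dvd hx3 hj, one_mul] at h5
    exact hq1 (isConj_one_left.1 h5)
  have hcard : Nat.card (principalBlock M (C ⧸ zpowers z)) =
      blockRank 3 (principalBlock M (C ⧸ zpowers z)) + 1 := by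
    rw [H634.Cols.card_principal_eq hM ({1, π x} : Finset (C ⧸ zpowers z)) ?_ ?_, Finset.sum_pair hx1.symm,
      blockRank_centralizer_of_central (one_mem _),
      H590.RankOne.blockRank_eq_one hM (exists_index_centralizer_quot hD ⟨1, by
        rw [pow_one]; exact orderOf_eq_prime h.x3 (fun e => hxz (e ▸ one_mem _))⟩ hxz)]
    · intro q hq
      rcases Finset.mem_insert.1 hq with rfl | hq
      · exact ⟨0, by simp⟩
      · rw [Finset.mem_singleton.1 hq]; exact ⟨1, by rw [hxo, pow_one]⟩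
    · intro q hq
      by_cases hq1 : q = 1
      · subst hq1
        refine ⟨1, ⟨by simp, IsConj.refl 1⟩, ?_⟩
        rintro w ⟨-, hw⟩
        exact isConj_one_right.1 hw
      · refine ⟨π x, ⟨by simp, (hall q hq hq1).symm⟩, ?_⟩
        rintro w ⟨hw, hw'⟩
        rcases Finset.mem_insert.1 hw with rfl | hw
        · exact absurd (isConj_one_left.1 hw') hq1
        · exact Finset.mem_singleton.1 hw
  have h9 : 3 ^ 2 ∣ Nat.card (C ⧸ zpowers z) := by
    have h1 := (zpowers z).card_eq_card_quotient_mul_card_subgroup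
    have h2 : 27 ∣ Nat.card C := hP27 ▸ card_subgroup_dvd_card _
    rw [h1, card_zpowers_z hD] at h2
    obtain ⟨c, hc⟩ := h2
    exact ⟨c, by omega⟩
  have hfi : Finite (IrrCharacter (C ⧸ zpowers z)) := Characters.Core.finite_irr
  have h6 := H774.K0.six_le_card (G := C ⧸ zpowers z) (by norm_num) hM h9
  have h7 : Nat.card {χ : IrrCharacter (C ⧸ zpowers z) // χ ∈ principalBlock M (C ⧸ zpowers z) ∧
      ¬ 3 ∣ charDegree (χ : C ⧸ zpowers z → ℂ)} ≤ Nat.card (principalBlock M (C ⧸ zpowers z)) := by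
    refine Nat.card_le_card_of_injective (fun χ => (⟨χ.1, χ.2.1⟩ : principalBlock M (C ⧸ zpowers z))) ?_
    intro a b hab
    refine Subtype.ext ?_
    exact (congrArg (fun w : principalBlock M (C ⧸ zpowers z) => (w : IrrCharacter (C ⧸ zpowers z))) hab)
  omega

theorem ExtraDat.comap {C : Type*} [Group C] {x y z s t : C} {D : Type*} [Group D] (f : C →* D)
    (hf : Function.Injective f) (h : ExtraDat (f x) (f y) (f z) (f s) (f t)) : ExtraDat x y z s t where
  x3 := hf (by rw [map_pow, h.x3, map_one])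
  y3 := hf (by rw [map_pow, h.y3, map_one])
  zx := hf (by rw [map_mul, h.zx, map_mul])
  zy := hf (by rw [map_mul, h.zy, map_mul])
  xy := hf (by rw [map_mul, h.xy, map_mul, map_mul])
  z1 := fun e => h.z1 (by rw [e, map_one])
  zs := hf (by rw [map_mul, h.zs, map_mul])
  zt := hf (by rw [map_mul, h.zt, map_mul])
  sx := by
    obtain ⟨k, hk⟩ := h.sx
    exact ⟨k, hf (by rw [map_mul, hk, map_mul, map_mul, map_pow])⟩
  sy := by
    obtain ⟨k, hk⟩ := h.sy
    exact ⟨k, hf (by rw [map_mul, hk, map_mul, map_mul, map_pow, map_pow])⟩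
  tx := by
    obtain ⟨k, hk⟩ := h.tx
    exact ⟨k, hf (by rw [map_mul, hk, map_mul, map_mul, map_mul, map_pow])⟩

/-- **weight five**: the 3-part of `|X|` is 27, `x`, `y` generate an extraspecial group with centre `⟨z⟩`, and the
elements `s`, `t` centralize `z` and act on `⟨x, y⟩ / ⟨z⟩` transitively (`s` as an element of order 4). -/
theorem wtGe_five {X : Type*} [Group X] {x y z s t : X} (h : ExtraDat x y z s t) (h81 : ¬ 81 ∣ Nat.card X) :
    WtGe 3 z 5 := by
  intro M G i1 i2 K f hS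
  have h3 : Fact (Nat.Prime 3) := ⟨Nat.prime_three⟩
  have hfX := finite_of_sit hS
  have hc : ∀ g : X, z * g = g * z → emb f g ∈ centralizer ({emb f z} : Set G) := by
    intro g hg
    rw [mem_centralizer_singleton_iff, ← map_mul, ← map_mul, hg]
  refine five_le hS.modular (C := ↥(centralizer ({emb f z} : Set G))) (x := ⟨emb f x, hc x h.zx⟩)
    (y := ⟨emb f y, hc y h.zy⟩) (z := ⟨emb f z, hc z rfl⟩) (s := ⟨emb f s, hc s h.zs⟩) (t := ⟨emb f t, hc t h.zt⟩)
    (ExtraDat.comap (centralizer ({emb f z} : Set G)).subtype (subtype_injective _) (h.map (emb f) (emb_inj f)))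
    ?_ ?_
  · rw [mem_center_iff]
    intro g
    exact Subtype.ext (mem_centralizer_singleton_iff.1 g.2)
  · intro h81'
    have h1 : 3 ^ 4 ∣ Nat.card G := by
      norm_num
      exact h81'.trans (card_subgroup_dvd_card _)
    rw [h3.out.pow_dvd_iff_le_factorization Nat.card_pos.ne', fact_card hS,
      ← h3.out.pow_dvd_iff_le_factorization Nat.card_pos.ne'] at h1
    norm_num at h1
    exact h81 h1

/-- **Criterion Q**: the row from an element of order 3 and weight five. -/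
theorem KRow.of_extra {X : Type u} [Group X] [Finite X] (hX : ¬ HasNormalPComplement 3 X) {x y z s t : X}
    (h : ExtraDat x y z s t) (h81 : ¬ 81 ∣ Nat.card X) : KRow.{w, u} 3 X :=
  KRow.of_weights hX {z} (by
    intro g hg
    rw [Finset.mem_singleton.1 hg]
    exact ⟨⟨1, by rw [h.z_order, pow_one]⟩, h.z1⟩) (by
    intro a ha b hb σ _
    rw [Finset.mem_singleton.1 ha, Finset.mem_singleton.1 hb]) (fun _ => 5) (by
    intro a ha
    rw [Finset.mem_singleton.1 ha]
    exact wtGe_five h h81) (by simp)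

end Cfsg.Agent.H210.K6
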