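import Cfsg.Agent.H42.Tw.F4Three
import Cfsg.Agent.H210.K6.Q8

/-!
# S4876: `3^{1+2} : Q₈` in `²F₄(2)` (helper210)

Explicit words in the letters of `ChevalleyStructure.Tits`: `extra` : `ExtraDat` in `²F₄(q)`.
-/

set_option autoImplicit false

open Cfsg Subgroup

namespace Cfsg.Agent.H210.K6

open Cfsg.Agent.ChevalleyStructure.Tits.Pack Cfsg.Agent.ChevalleyStructure.Tits.Data
  Cfsg.Agent.ChevalleyStructure.Tits.Mat Cfsg.Agent.ChevalleyStructure.Tits.Order

open scoped MatrixGroups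

namespace Quat

def wx : List ℕ := [4, 9, 8, 9, 8, 9, 8, 9]
def wy : List ℕ := [2, 6, 5, 3, 9, 8, 9, 8, 9, 8, 9, 2, 6, 5, 3]
def wz : List ℕ := [0, 8]
def ws : List ℕ := [2, 6, 3, 5]
def wt : List ℕ := [1, 6, 8, 7, 0, 3]

theorem W_eq {u v : List ℕ}
    (h : (chk (u, v) && ((u.all fun i => Nat.blt i 12) && (v.all fun i => Nat.blt i 12))) = true) : W u = W v := by
  rw [Bool.and_eq_true, Bool.and_eq_true, List.all_eq_true, List.all_eq_true] at h
  refine rel_of_chk h.1 (fun i hi => ?_) (fun i hi => ?_)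
  · have := h.2.1 i hi; rwa [Nat.blt_eq] at this
  · have := h.2.2 i hi; rwa [Nat.blt_eq] at this

theorem W_nil' : W [] = 1 := rfl

theorem wz_ne : W wz ≠ 1 := by
  intro he
  have h1 : toMat (evalW wz) = toMat (evalW []) := by
    rw [toMat_evalW, toMat_evalW, ← coe_word wz (by decide), ← coe_word [] (by simp)]
    exact congrArg (fun g : GL I52 (ZMod 2) => (g : Matrix I52 I52 (ZMod 2))) he
  have h2 := congrFun (congrFun h1 (Sum.inl 0)) (Sum.inl 1)
  rw [toMat_apply, toMat_apply, ix_inl, ix_inl] at h2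
  have h3 : ((evalW wz).testBit (52 * (1 : Fin 4).val + (0 : Fin 4).val) !=
    (evalW []).testBit (52 * (1 : Fin 4).val + (0 : Fin 4).val)) = true := by decide +kernel
  revert h2 h3
  cases (evalW wz).testBit (52 * (1 : Fin 4).val + (0 : Fin 4).val) <;>
    cases (evalW []).testBit (52 * (1 : Fin 4).val + (0 : Fin 4).val) <;> simp [bz]

theorem e1 : W (wx ++ (wx ++ wx)) = W [] := W_eq (by decide +kernel)
theorem e2 : W (wy ++ (wy ++ wy)) = W [] := W_eq (by decide +kernel)
theorem e3 : W (wz ++ wx) = W (wx ++ wz) := W_eq (by decide +kernel)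
theorem e4 : W (wz ++ wy) = W (wy ++ wz) := W_eq (by decide +kernel)
theorem e5 : W (wx ++ wy) = W (wz ++ (wy ++ wx)) := W_eq (by decide +kernel)
theorem e6 : W (wz ++ ws) = W (ws ++ wz) := W_eq (by decide +kernel)
theorem e7 : W (wz ++ wt) = W (wt ++ wz) := W_eq (by decide +kernel)
theorem e8 : W (ws ++ wx) = W (wy ++ ws) := W_eq (by decide +kernel)
theorem e9 : W (ws ++ wy) = W (wx ++ (wx ++ ws)) := W_eq (by decide +kernel)
theorem e10 : W (wt ++ wx) = W (wx ++ (wy ++ (wz ++ wt))) := W_eq (by decide +kernel)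

theorem extra_W : ExtraDat (W wx) (W wy) (W wz) (W ws) (W wt) where
  x3 := by rw [pow_succ', pow_succ', pow_one, ← W_append, ← W_append, e1, W_nil']
  y3 := by rw [pow_succ', pow_succ', pow_one, ← W_append, ← W_append, e2, W_nil']
  zx := by rw [← W_append, e3, W_append]
  zy := by rw [← W_append, e4, W_append]
  xy := by rw [← W_append, e5, W_append, W_append]
  z1 := wz_ne
  zs := by rw [← W_append, e6, W_append]
  zt := by rw [← W_append, e7, W_append]
  sx := ⟨0, by rw [← W_append, e8, W_append, pow_zero, mul_one]⟩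
  sy := ⟨0, by rw [← W_append, e9, W_append, W_append, pow_zero, mul_one, pow_two, mul_assoc]⟩
  tx := ⟨1, by rw [← W_append, e10, W_append, W_append, W_append, pow_one, mul_assoc, mul_assoc]⟩

theorem extra_sub (T : Subgroup (GL I52 (ZMod 2))) (hT : T = H0) : ∃ x y z s t : T, ExtraDat x y z s t := by
  subst hT
  exact ⟨⟨W wx, W_mem _ (by decide)⟩, ⟨W wy, W_mem _ (by decide)⟩, ⟨W wz, W_mem _ (by decide)⟩,
    ⟨W ws, W_mem _ (by decide)⟩, ⟨W wt, W_mem _ (by decide)⟩, ExtraDat.comap H0.subtype (subtype_injective _) extra_W⟩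

theorem extra_two : ∃ x y z s t : ↥(Lie.twistedF4 (ZMod 2) 1), ExtraDat x y z s t :=
  extra_sub _ Cfsg.Agent.ChevalleyStructure.Tits.Main.T0_eq_H0

end Quat

/-- **`3^{1+2} : Q₈` in `²F₄(q)`** -/
theorem exists_extra (K : Type*) [Field K] [CharP K 2] {e : ℕ} (he : 0 < e) :
    ∃ x y z s t : ↥(Lie.twistedF4 K e), ExtraDat x y z s t := by
  obtain ⟨x, y, z, s, t, h⟩ := Quat.extra_two
  set f := ZMod.castHom (dvd_refl 2) K with hf
  let j : ↥(Lie.twistedF4 (ZMod 2) 1) →* ↥(Lie.twistedF4 K e) :=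
    ((H42.Tw.glF (ZMod 2) K f).comp (Lie.twistedF4 (ZMod 2) 1).subtype).codRestrict (Lie.twistedF4 K e)
      fun g => H42.Tw.glF_mem K he g.2
  have hj : Function.Injective j := fun a b hab => Subtype.ext (H42.Tw.glF_injective _ _ _ (congrArg Subtype.val hab))
  exact ⟨j x, j y, j z, j s, j t, h.map j hj⟩

end Cfsg.Agent.H210.K6
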