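import Cfsg.Agent.H240.GenTwF.TwFInner

/-!
# S4876, rows `²F₄(q)`: fusion in the torus (helper210)

* `fusion` : conjugate elements of `T` are conjugate under `⟨rot, n₂⟩`;
* `rot_h` : the action of `rot` on `T`.
-/

set_option autoImplicit false

open Subgroup

namespace Cfsg.Agent.H210.K6

open Cfsg.Agent.KFacts.TwF4 Cfsg.Agent.KFacts.TwF4.Irr Cfsg.Agent.KFacts.TwF4.Inv Cfsg.Agent.KFacts.TwF4.Arc
open Cfsg.Agent.SplitTwo.ZS Cfsg.Agent.SplitTwo.RootSysZ Cfsg.Agent.TitsThree.RankTwoZ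
open Cfsg.Agent.CpAutTwF.Cent

universe u

variable {F : Type*} [Field F] {σ : F →+* F} {G : Type u} [Group G] (S : Full σ G)

/-- the torus has odd order -/
theorem T_odd [Finite F] {t : G} (ht : t ∈ S.T) {k : ℕ} (h : t ^ 2 ^ k = 1) : t = 1 := by
  obtain ⟨c, d, rfl⟩ := S.mem_T.1 ht
  have hpow : ∀ n : ℕ, S.h c d ^ n = S.h (c ^ n) (d ^ n) := by
    intro n
    induction n with
    | zero => rw [pow_zero, pow_zero, pow_zero, S.h_one]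
    | succ n ih => rw [pow_succ, ih, S.h_mul, ← pow_succ, ← pow_succ]
  rw [hpow, ← S.h_one] at h
  obtain ⟨h1, h2⟩ := S.h_inj _ _ _ _ h
  have key : ∀ (n : ℕ) (x : Fˣ), x ^ 2 ^ n = 1 → x = 1 := by
    intro n
    induction n with
    | zero => intro x hx; simpa using hx
    | succ n ih =>
      intro x hx
      rw [pow_succ, pow_mul] at hx
      rw [pow_two] at hx
      exact ih x (S.sq_eq_one hx)
  rw [key k c h1, key k d h2, S.h_one]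

/-- conjugation by `rot` on the torus -/
theorem rot_h (c d : Fˣ) : S.ck 1 (S.h c d) = S.h (Units.map (σ : F →* F) c / d) c := by
  have hT : S.ck 1 (S.h c d) ∈ S.T := S.ck_T 1 (S.mem_T.2 ⟨c, d, rfl⟩)
  obtain ⟨c2, d2, e1⟩ := S.mem_T.1 hT
  have key : ∀ a : ZMod 8, (chE σ a c2 d2 : F) = chE σ (a - 1) c d := by
    intro a
    have h1 := S.h_e c2 d2 a 1 0
    have h3 : S.ck 1 (S.h c d) * S.e a 1 0 * (S.ck 1 (S.h c d))⁻¹ = S.e a ((chE σ (a - 1) c d : F) * 1) 0 := by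
      have e2 : S.ck 1 (S.e (a - 1) 1 0) = S.e a 1 0 := by
        rw [S.ck_e]
        congr 1
        push_cast
        ring
      rw [← e2, ← map_inv, ← map_mul, ← map_mul, S.h_e, S.ck_e, mul_zero]
      congr 1
      push_cast
      ring
    rw [e1, h3, mul_zero] at h1
    have h4 := (S.injE a _ _ _ _ h1).1
    rw [mul_one, mul_one] at h4
    exact h4.symm
  have k0 : c2 = Units.map (σ : F →* F) c / d := Units.ext (key 0)
  have k1 : d2 = c := Units.ext (key 1)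
  rw [← e1, k0, k1]

/-- **Fusion in the torus.** -/
theorem fusion [Finite F] [Finite G] (hR : S.R.p = 2) {t t' g : G} (ht : t ∈ S.T) (ht' : t' ∈ S.T)
    (h : g * t * g⁻¹ = t') : ∃ c : ℤ, t' = S.ck c t ∨ t' = S.ck c (S.n2 * t * S.n2⁻¹) := by
  have hU2 : IsPGroup 2 (J S.XZ 1 8) := isPGroup_J S.zsys8 (two_X S hR) 8 1 8 (by norm_num) (by norm_num)
  obtain ⟨b, hb, τ, hτ, w, hw, b', hb', rfl⟩ := S.bruhatE g
  obtain ⟨c, t0, ht0, hw'⟩ := dih_form S hw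
  -- `w` normalizes the torus
  have hn2T : ∀ s ∈ S.T, S.n2 * s * S.n2⁻¹ ∈ S.T := by
    intro s hs
    obtain ⟨x, y, rfl⟩ := S.mem_T.1 hs
    rw [S.n2_h]
    exact S.mem_T.2 ⟨_, _, rfl⟩
  have hwt : (w * t * w⁻¹ = S.ck c t ∨ w * t * w⁻¹ = S.ck c (S.n2 * t * S.n2⁻¹)) ∧ w * t * w⁻¹ ∈ S.T := by
    have h0 : t0 * t * t0⁻¹ = t := by rw [S.T_comm ht0 ht]; group
    rcases hw' with rfl | rfl
    · have e : S.rot ^ c * t0 * t * (S.rot ^ c * t0)⁻¹ = S.ck c t := by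
        rw [S.ck_apply]
        calc S.rot ^ c * t0 * t * (S.rot ^ c * t0)⁻¹ = S.rot ^ c * (t0 * t * t0⁻¹) * (S.rot ^ c)⁻¹ := by group
          _ = _ := by rw [h0]
      rw [e]
      exact ⟨Or.inl rfl, S.ck_T c ht⟩
    · have e : S.rot ^ c * S.n2 * t0 * t * (S.rot ^ c * S.n2 * t0)⁻¹ = S.ck c (S.n2 * t * S.n2⁻¹) := by
        rw [S.ck_apply]
        calc S.rot ^ c * S.n2 * t0 * t * (S.rot ^ c * S.n2 * t0)⁻¹ =
            S.rot ^ c * (S.n2 * (t0 * t * t0⁻¹) * S.n2⁻¹) * (S.rot ^ c)⁻¹ := by group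
          _ = _ := by rw [h0]
      rw [e]
      exact ⟨Or.inr rfl, S.ck_T c (hn2T t ht)⟩
  obtain ⟨hwc, hwT⟩ := hwt
  -- the comparison
  set t2 := w * t * w⁻¹ with ht2
  set b2 := t⁻¹ * b' * t with hb2
  have hb2U : b2 ∈ J S.XZ 1 8 := by
    have := S.T_conj_J (inv_mem ht) hb'
    rwa [inv_inv] at this
  set b1 := t' * b * t'⁻¹ with hb1
  have hb1U : b1 ∈ J S.XZ 1 8 := S.T_conj_J ht' hb
  have h1 : b * τ * w * b' * t = t' * (b * τ * w * b') := by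
    rw [← h]; group
  -- `w (b2 b'⁻¹) w⁻¹ = t2⁻¹ (τ⁻¹ b⁻¹ b1 τ) t'`
  have hcomm : τ⁻¹ * t' * τ = t' := by
    rw [mul_assoc, S.T_comm ht' hτ]; group
  have h2 : w * (b2 * b'⁻¹) * w⁻¹ = t2⁻¹ * (τ⁻¹ * (b⁻¹ * b1) * τ) * t' := by
    have h3 : t2 * (w * (b2 * b'⁻¹) * w⁻¹) = τ⁻¹ * b⁻¹ * (b * τ * w * b' * t) * b'⁻¹ * w⁻¹ := by
      rw [ht2, hb2]; group
    have h4 : τ⁻¹ * b⁻¹ * (t' * (b * τ * w * b')) * b'⁻¹ * w⁻¹ =
        (τ⁻¹ * (b⁻¹ * b1) * τ) * (τ⁻¹ * t' * τ) := by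
      rw [hb1]; group
    rw [h1, h4, hcomm] at h3
    rw [mul_assoc t2⁻¹, ← h3, inv_mul_cancel_left]
  -- the right hand side is `u s`, `u ∈ U`, `s = t2⁻¹ t'`
  have hu : τ⁻¹ * (b⁻¹ * b1) * τ ∈ J S.XZ 1 8 := by
    have := S.T_conj_J (inv_mem hτ) (mul_mem (inv_mem hb) hb1U)
    rwa [inv_inv] at this
  obtain ⟨u, huu, hue⟩ : ∃ u ∈ J S.XZ 1 8, w * (b2 * b'⁻¹) * w⁻¹ = u * (t2⁻¹ * t') := by
    refine ⟨t2⁻¹ * (τ⁻¹ * (b⁻¹ * b1) * τ) * t2⁻¹⁻¹, S.T_conj_J (inv_mem hwT) hu, ?_⟩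
    rw [h2]; group
  -- it is a 2-element
  obtain ⟨k, hk⟩ := hU2 ⟨b2 * b'⁻¹, mul_mem hb2U (inv_mem hb')⟩
  have hk' : (b2 * b'⁻¹) ^ 2 ^ k = 1 := by
    have := congrArg Subtype.val hk
    simpa using this
  have hk2 : (u * (t2⁻¹ * t')) ^ 2 ^ k = 1 := by
    rw [← hue, conj_pow, hk', mul_one, mul_inv_cancel]
  have hsT : t2⁻¹ * t' ∈ S.T := mul_mem (inv_mem hwT) ht'
  -- powers of `u s`
  have hpow : ∀ n : ℕ, ∃ v ∈ J S.XZ 1 8, (u * (t2⁻¹ * t')) ^ n = v * (t2⁻¹ * t') ^ n := by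
    intro n
    induction n with
    | zero => exact ⟨1, one_mem _, by rw [pow_zero, pow_zero, mul_one]⟩
    | succ n ih =>
      obtain ⟨v, hv, hve⟩ := ih
      refine ⟨v * ((t2⁻¹ * t') ^ n * u * ((t2⁻¹ * t') ^ n)⁻¹), mul_mem hv (S.T_conj_J (pow_mem hsT n) huu), ?_⟩
      rw [pow_succ, hve, pow_succ]; group
  obtain ⟨v, hv, hve⟩ := hpow (2 ^ k)
  rw [hk2] at hve
  have hs1 : (t2⁻¹ * t') ^ 2 ^ k = 1 := by
    have h5 : (t2⁻¹ * t') ^ 2 ^ k = v⁻¹ := eq_inv_of_mul_eq_one_right hve.symm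
    exact S.U_inf_T (pow_mem hsT _) (by rw [h5]; exact inv_mem hv)
  have hs : t2⁻¹ * t' = 1 := T_odd S hsT hs1
  have hfin : t' = t2 := (inv_mul_eq_one.1 hs).symm
  rw [hfin]
  exact ⟨c, hwc⟩

end Cfsg.Agent.H210.K6
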